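import Groth.Agent.GrLib8.BassShift
import Groth.Agent.RegLoc6.Seq
import Groth.Agent.CAlgOdd.Acyclicity
import Mathlib.RingTheory.KrullDimension.Regular
import Mathlib.Algebra.Homology.DerivedCategory.Ext.EnoughProjectives
import Mathlib.Algebra.Homology.DerivedCategory.Ext.Linear

/-!
`Ext` of the residue field of a regular local ring into the ring, and dimension shifting.
-/

noncomputable section

set_option linter.style.haveILetI false
set_option linter.unusedSectionVars false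
set_option linter.deprecated false

universe u

open CategoryTheory CategoryTheory.Limits IsLocalRing RingTheory.Sequence

namespace Groth.Agent.AVPoinc

variable {R : Type u} [CommRing R]

theorem ext_self (i : ℕ) :
    Nonempty (Abelian.Ext.{u} (ModuleCat.of R (R ⧸ (⊥ : Ideal R))) (ModuleCat.of R R) i ≃ₗ[R]
      ((if i = 0 then PUnit.{u+1} else PEmpty.{u+1}) →₀ R ⧸ (⊥ : Ideal R))) := by
  let e : (R ⧸ (⊥ : Ideal R)) ≃ₗ[R] R := Submodule.quotEquivOfEqBot ⊥ rfl
  cases i with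
  | zero =>
    rw [if_pos rfl]
    exact ⟨Abelian.Ext.linearEquiv₀.trans (ModuleCat.homLinearEquiv.trans
      (((LinearEquiv.congrLeft R R e).trans (LinearMap.ringLmapEquivSelf R R R)).trans
        (e.symm.trans (Finsupp.LinearEquiv.finsuppUnique R (R ⧸ (⊥ : Ideal R)) PUnit).symm)))⟩
  | succ j =>
    rw [if_neg (Nat.succ_ne_zero j)]
    haveI : Module.Projective R (R ⧸ (⊥ : Ideal R)) := Module.Projective.of_equiv e.symm
    haveI : Projective (ModuleCat.of R (R ⧸ (⊥ : Ideal R))) := (IsProjective.iff_projective _).1 inferInstance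
    exact ⟨{ toFun := fun _ => 0, invFun := fun _ => 0,
             left_inv := fun z => (Abelian.Ext.eq_zero_of_projective z).symm,
             right_inv := fun z => Finsupp.ext fun b => b.elim, map_add' := fun _ _ => (add_zero 0).symm,
             map_smul' := fun r _ => (smul_zero r).symm }⟩

/-- A regular local ring of dimension `g` has `Ext^g(k, R) = k` and no lower `Ext`. -/
theorem ext_residue_self [IsRegularLocalRing R] {g : ℕ} (hg : ringKrullDim R = g) :
    (∀ i < g, Subsingleton (Abelian.Ext.{u} (ModuleCat.of R (R ⧸ maximalIdeal R)) (ModuleCat.of R R) i)) ∧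
      Nonempty (Abelian.Ext.{u} (ModuleCat.of R (R ⧸ maximalIdeal R)) (ModuleCat.of R R) g ≃ₗ[R]
        R ⧸ maximalIdeal R) := by
  letI := Ideal.Quotient.field (maximalIdeal R)
  haveI : IsRegularLocalRing (R ⧸ maximalIdeal R) := inferInstance
  obtain ⟨rs, hmem, hw, heq⟩ := RegLoc6.exists_list_of_quotient _ R (maximalIdeal R) le_rfl ‹_›
  have hlen : rs.length = g := by
    have h := Module.supportDim_add_length_eq_supportDim_of_isRegular rs
      (RegLoc6.isRegular_iff_weakly rs hmem hw)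
    rw [Module.supportDim_self_eq_ringKrullDim, hg] at h
    have h0 : Module.supportDim R (R ⧸ (Ideal.ofList rs • ⊤ : Submodule R R)) = 0 := by
      rw [smul_eq_mul, Ideal.mul_top, heq, Module.supportDim_quotient_eq_ringKrullDim]
      exact ringKrullDim_eq_zero_of_field _
    rw [h0, zero_add] at h
    exact_mod_cast h
  have e : IsWeaklyRegular (R ⧸ (⊥ : Ideal R)) rs :=
    ((Submodule.quotEquivOfEqBot (⊥ : Ideal R) rfl).isWeaklyRegular_congr rs).2 hw
  obtain ⟨h1, h2⟩ := GrLib8.ext_chain rs ⊥ (GrLib8.regChain_of_isWeaklyRegular rs ⊥ e) (ModuleCat.of R R) _ ext_self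
  rw [bot_sup_eq, heq, hlen] at h1
  refine ⟨h1, ?_⟩
  obtain ⟨f⟩ := h2 0
  rw [zero_add, hlen, if_pos rfl, bot_sup_eq, heq] at f
  exact ⟨f.trans (Finsupp.LinearEquiv.finsuppUnique R (R ⧸ maximalIdeal R) PUnit)⟩

variable {S : ShortComplex (ModuleCat.{u} R)} (hS : S.ShortExact) (Y : ModuleCat.{u} R)

include hS

/-- Dimension shifting. -/
theorem ext_shift [Projective S.X₂] (i : ℕ) :
    Nonempty (Abelian.Ext.{u} S.X₁ Y (i + 1) ≃ₗ[R] Abelian.Ext.{u} S.X₃ Y (i + 1 + 1)) := by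
  let δ : Abelian.Ext.{u} S.X₁ Y (i + 1) →ₗ[R] Abelian.Ext.{u} S.X₃ Y (i + 1 + 1) :=
    Abelian.Ext.precompOfLinear hS.extClass R Y (add_comm 1 (i + 1))
  refine ⟨LinearEquiv.ofBijective δ ⟨(injective_iff_map_eq_zero δ).2 fun z hz => ?_, fun x => ?_⟩⟩
  · obtain ⟨x₂, rfl⟩ := Abelian.Ext.contravariant_sequence_exact₁ hS Y z (add_comm 1 (i + 1)) hz
    rw [Abelian.Ext.eq_zero_of_projective x₂, Abelian.Ext.comp_zero]
  · exact Abelian.Ext.contravariant_sequence_exact₃ hS Y x (Abelian.Ext.eq_zero_of_projective _) (add_comm 1 (i + 1))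

/-- The first `Ext` is the cokernel of restriction. -/
theorem ext_one [Projective S.X₂] :
    ∃ q : (S.X₁ →ₗ[R] Y) →ₗ[R] Abelian.Ext.{u} S.X₃ Y 1, Function.Surjective q ∧
      LinearMap.ker q = LinearMap.range (LinearMap.lcomp R Y S.f.hom) := by
  let e0 : Abelian.Ext.{u} S.X₁ Y 0 ≃ₗ[R] (S.X₁ →ₗ[R] Y) := Abelian.Ext.linearEquiv₀.trans ModuleCat.homLinearEquiv
  let δ : Abelian.Ext.{u} S.X₁ Y 0 →ₗ[R] Abelian.Ext.{u} S.X₃ Y 1 :=
    Abelian.Ext.precompOfLinear hS.extClass R Y (add_comm 1 0)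
  have hδ : Function.Surjective δ := fun x =>
    Abelian.Ext.contravariant_sequence_exact₃ hS Y x (Abelian.Ext.eq_zero_of_projective _) (add_comm 1 0)
  refine ⟨δ ∘ₗ e0.symm.toLinearMap, hδ.comp e0.symm.surjective, le_antisymm (fun f hf => ?_) ?_⟩
  · obtain ⟨x₂, hx₂⟩ := Abelian.Ext.contravariant_sequence_exact₁ hS Y (e0.symm f) (add_comm 1 0) hf
    obtain ⟨f₂, rfl⟩ := (Abelian.Ext.linearEquiv₀ (R := R)).symm.surjective x₂
    refine ⟨f₂.hom, ?_⟩
    have h2 := congrArg e0 hx₂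
    rw [LinearEquiv.apply_symm_apply, Abelian.Ext.linearEquiv₀_symm_apply, Abelian.Ext.mk₀_comp_mk₀] at h2
    rw [← h2]
    show _ = ModuleCat.homLinearEquiv (S := R) (Abelian.Ext.linearEquiv₀ (R := R) (Abelian.Ext.mk₀ (S.f ≫ f₂)))
    rw [show Abelian.Ext.linearEquiv₀ (R := R) (Abelian.Ext.mk₀ (S.f ≫ f₂)) = S.f ≫ f₂ from
      (Abelian.Ext.linearEquiv₀ (R := R)).apply_symm_apply _]
    rfl
  · rintro _ ⟨f₂, rfl⟩
    show hS.extClass.comp (Abelian.Ext.mk₀ (ModuleCat.ofHom (f₂ ∘ₗ S.f.hom))) (add_comm 1 0) = 0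
    rw [show ModuleCat.ofHom (f₂ ∘ₗ S.f.hom) = S.f ≫ ModuleCat.ofHom f₂ from rfl, ← Abelian.Ext.mk₀_comp_mk₀]
    exact hS.extClass_comp_assoc _

end Groth.Agent.AVPoinc
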