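import Groth.Agent.AVPhi.Api
import Groth.Agent.Lib.AVDecomp

/-!
Over an algebraically closed field the Poincare bundle has no cohomology on slices away from the unit.
-/

set_option linter.style.haveILetI false
set_option linter.unusedSectionVars false
set_option backward.isDefEq.respectTransparency false
set_option backward.isDefEq.respectTransparency.types false
set_option autoImplicit false

universe u

open CategoryTheory CategoryTheory.Limits MonoidalCategory CartesianMonoidalCategory MonObj AlgebraicGeometry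
open TopologicalSpace

namespace Groth.Agent.AVPoinc

open Groth.Agent.H23 Groth.Agent.H23.TrivBasic Groth.Agent.AVPair Groth.Agent.AVAmple
open scoped Groth.Agent.H23.PicMul

variable {k : Type u} [Field k] {A At : Over (Spec (CommRingCat.of k))} [GrpObj A] [GrpObj At]
  {φ : ∀ T : Over (Spec (CommRingCat.of k)), PicF.Cl (PicF.XT A.hom T) → (T ⟶ At)}
  (hφ : AbDual.IsDualAV Scheme.fppfPrecoverage A At φ) {P : (A ⊗ At).left.Modules}
  (hξ : AbDual.IsPoincareCl A At φ (PicF.cl P))
include hφ hξ

/-- A trivial slice of the Poincare bundle lies over the unit. -/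
theorem eq_one_of_slice_trivial (a : 𝟙_ (Over (Spec (CommRingCat.of k))) ⟶ At)
    (h : pl (AVPhi.slice A At a) (PicF.cl P) = 1) : a = 1 := by
  have e : (fst A (𝟙_ (Over (Spec (CommRingCat.of k))))) ≫ AVPhi.slice A At a = A ◁ a := by
    apply CartesianMonoidalCategory.hom_ext
    · rw [Category.assoc, lift_fst, Category.comp_id, whiskerLeft_fst]
    · rw [Category.assoc, lift_snd, whiskerLeft_snd, ← Category.assoc, toUnit_unique (_ ≫ _) (snd A (𝟙_ _))]
  have h1 : pl (A ◁ a) (PicF.cl P) = 1 := by rw [← e, ← pl_pl, h, map_one]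
  have h2 := AVDual.phi_pl hφ a (show AVDual.PZ A At (PicF.cl P) from hξ.1)
  rw [h1, AVDual.phi_one hφ, hξ.2.1, Category.comp_id] at h2
  exact h2.symm

variable [IsAlgClosed k]

/-- Slices of the Poincare bundle are algebraically equivalent to zero. -/
theorem algEquivZero_slice (a : 𝟙_ (Over (Spec (CommRingCat.of k))) ⟶ At) :
    @Pic13.IsAlgEquivZero k _ A.left ⟨A.hom⟩ ((Scheme.Modules.pullback (AVPhi.slice A At a).left).obj P) := by
  obtain ⟨M, hMc, -, hMt⟩ := AVDual.pz_pl a (show AVDual.PZ A At (PicF.cl P) from hξ.1)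
  let U := 𝟙_ (Over (Spec (CommRingCat.of k)))
  let σ : Spec (CommRingCat.of k) ⟶ U.left := 𝟙 _
  haveI : Subsingleton U.left := inferInstanceAs (Subsingleton (PrimeSpectrum k))
  have hr : Set.range σ.base = {IsLocalRing.closedPoint k} :=
    Set.eq_singleton_iff_nonempty_unique_mem.2 ⟨⟨_, ⟨IsLocalRing.closedPoint k, rfl⟩⟩, fun x _ => Subsingleton.elim (α := U.left) _ _⟩
  have h0 := hMt (IsLocalRing.closedPoint k : U.left) k σ hr
  let f : A.left ⟶ pullback (PicF.XTproj A.hom U) σ :=
    pullback.lift (lift (𝟙 A) (toUnit A)).left A.hom (by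
      show (lift (𝟙 A) (toUnit A)).left ≫ (snd A U).left = A.hom ≫ 𝟙 _
      rw [← Over.comp_left, lift_snd, Category.comp_id]
      rfl)
  have h1 := AVDual.algEquivZero_pullback _ A.hom f (pullback.lift_snd _ _ _) h0
  refine @AVDual.algEquivZero_of_iso k _ A.left ⟨A.hom⟩ _ _ ?_ h1
  refine (Scheme.Modules.pullbackComp _ _).app M ≪≫ (Scheme.Modules.pullbackCongr (pullback.lift_fst _ _ _)).app M ≪≫
    (Scheme.Modules.pullback (lift (𝟙 A) (toUnit A)).left).mapIso ((PicGrp.cl_eq_cl_iff _ _).1 hMc).some ≪≫
    (Scheme.Modules.pullbackComp _ _).app P ≪≫ (Scheme.Modules.pullbackCongr ?_).app P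
  rw [← Over.comp_left, lift_whiskerLeft]

variable [IsProper A.hom] [GeometricallyIntegral A.hom]

/-- Away from the unit the slices have no cohomology. -/
theorem subsingleton_HH_slice (hP : PicF.IsInvertible P) (a : 𝟙_ (Over (Spec (CommRingCat.of k))) ⟶ At) (ha : a ≠ 1)
    (i : ℕ) : Subsingleton (Coh.HH A.left ((Scheme.Modules.pullback (AVPhi.slice A At a).left).obj P) i) := by
  have hN := PicClLib.isInvertible_pullback (AVPhi.slice A At a).left hP
  exact AVPhi.subsingleton_HH_of_invariant hN
    (fun b => (AVPhi.nonempty_iso_iff _).1 (AVPhi.invariant_of_algEquivZero hN (algEquivZero_slice hφ hξ a) b))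
    (fun ht => ha (eq_one_of_slice_trivial hφ hξ a ((CubeAb.cl_eq_one_iff _).2 ht))) i

variable [IsProper At.hom] [GeometricallyIntegral At.hom]

/-- The higher direct images are concentrated at the unit. -/
theorem subsingleton_stalk_Rpush (hP : PicF.IsInvertible P) (p : ℕ) (y : At.left)
    (hy : y ≠ η[At].left (IsLocalRing.closedPoint k)) [HasInjectiveResolutions (A ⊗ At).left.Modules] :
    Subsingleton (((Coh.Rpush (snd A At).left p).obj P).presheaf.stalk y) := by
  refine AVPhi.subsingleton_stalk_Rpush_of_slices A At P hP (Set.finite_singleton (η[At].left (IsLocalRing.closedPoint k)))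
    (fun x hx => ?_) (fun a ha i => subsingleton_HH_slice hφ hξ hP a (fun h => ha ?_) i) p y hy
  · rw [Set.mem_singleton_iff.1 hx]
    exact isClosed_pt η[At]
  · rw [h, Hom.one_def, show toUnit (𝟙_ (Over (Spec (CommRingCat.of k)))) = 𝟙 _ from toUnit_unique _ _,
      Category.id_comp]
    exact Set.mem_singleton _

end Groth.Agent.AVPoinc
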