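import Groth.Agent.AVPoinc.Fibres
import Groth.Agent.CExt24.Models
import Groth.Agent.AVTors.Torsion
import Groth.Agent.GeomField.GlobalFunctions
import Groth.Agent.Snapper.DimVanish

/-!
The cohomology of all fibres of the Poincare bundle.
-/

set_option linter.style.haveILetI false
set_option linter.unusedSectionVars false
set_option backward.isDefEq.respectTransparency false
set_option backward.isDefEq.respectTransparency.types false
set_option autoImplicit false

universe u

open CategoryTheory CategoryTheory.Limits MonoidalCategory CartesianMonoidalCategory MonObj AlgebraicGeometry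
open TopologicalSpace

namespace Groth.Agent.AVPoinc

open Groth.Agent.H23 Groth.Agent.H23.TrivBasic Groth.Agent.AVPair Groth.Agent.AVAmple
open scoped Groth.Agent.H23.PicMul

variable {k : Type u} [Field k] [IsAlgClosed k] {A At : Over (Spec (CommRingCat.of k))} [GrpObj A] [IsProper A.hom]
  [GeometricallyIntegral A.hom] [GrpObj At] [IsProper At.hom] [GeometricallyIntegral At.hom]

/-- The point of the unit. -/
noncomputable abbrev org (At : Over (Spec (CommRingCat.of k))) [GrpObj At] : At.left :=
  η[At].left (IsLocalRing.closedPoint k)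

theorem one_eq_unit : (1 : 𝟙_ (Over (Spec (CommRingCat.of k))) ⟶ At) = η[At] := by
  rw [Hom.one_def, show toUnit (𝟙_ (Over (Spec (CommRingCat.of k)))) = 𝟙 _ from toUnit_unique _ _, Category.id_comp]

theorem one_pt : (1 : 𝟙_ (Over (Spec (CommRingCat.of k))) ⟶ At).left (IsLocalRing.closedPoint k) = org At := by
  rw [one_eq_unit]

/-- The fibre over a rational point lands in the slice. -/
theorem exists_fibre_slice {X Y : Over (Spec (CommRingCat.of k))} (a : 𝟙_ (Over (Spec (CommRingCat.of k))) ⟶ Y) :
    ∃ τ : (snd X Y).left.fiber (a.left (IsLocalRing.closedPoint k)) ⟶ X.left,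
      τ ≫ (AVPhi.slice X Y a).left = (snd X Y).left.fiberι (a.left (IsLocalRing.closedPoint k)) := by
  let y := a.left (IsLocalRing.closedPoint k)
  let g := Y.left.fromSpecResidueField y
  let φ := Scheme.descResidueField (Scheme.stalkClosedPointTo a.left)
  have hd : Spec.map φ ≫ g = a.left := Scheme.descResidueField_stalkClosedPointTo_fromSpecResidueField k _ a.left
  obtain ⟨ψ, hψ⟩ : ∃ ψ, Spec.map ψ = g ≫ Y.hom := ⟨Spec.preimage (g ≫ Y.hom), Spec.map_preimage _⟩
  have hcomp : Spec.map φ ≫ (g ≫ Y.hom) = 𝟙 _ := by rw [← Category.assoc, hd]; exact Over.w a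
  have h1 : ψ ≫ φ = 𝟙 _ := Spec.map_injective (by rw [Spec.map_comp, Spec.map_id, hψ]; exact hcomp)
  haveI : IsIso φ := (ConcreteCategory.isIso_iff_bijective φ).2
    ⟨φ.hom.injective, fun c => ⟨ψ c, congr($h1 c)⟩⟩
  have hg : g = inv (Spec.map φ) ≫ a.left := (IsIso.eq_inv_comp (Spec.map φ)).2 hd
  have hga : g ≫ Y.hom ≫ a.left = g := by
    have e : a.left ≫ Y.hom ≫ a.left = a.left := by
      rw [← Category.assoc, show a.left ≫ Y.hom = 𝟙 _ from Over.w a, Category.id_comp]
    conv_lhs => rw [hg, Category.assoc, e]
    exact hg.symm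
  let f := (snd X Y).left
  refine ⟨f.fiberι y ≫ (fst X Y).left, ?_⟩
  have hfac : f.fiberι y ≫ f = f.fiberToSpecResidueField y ≫ g := f.fiber_fac y
  refine pullback.hom_ext ?_ ?_
  · show (f.fiberι y ≫ (fst X Y).left) ≫ (AVPhi.slice X Y a).left ≫ (fst X Y).left = f.fiberι y ≫ (fst X Y).left
    rw [← Over.comp_left, lift_fst, Over.id_left, Category.comp_id]
  · show (f.fiberι y ≫ (fst X Y).left) ≫ (AVPhi.slice X Y a).left ≫ f = f.fiberι y ≫ f
    rw [show (AVPhi.slice X Y a).left ≫ f = X.hom ≫ a.left by
      rw [← Over.comp_left, lift_snd, Over.comp_left]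
      rfl]
    have hw : (fst X Y).left ≫ X.hom = f ≫ Y.hom := pullback.condition
    rw [Category.assoc, ← Category.assoc (fst X Y).left, hw, Category.assoc, ← Category.assoc (f.fiberι y), hfac,
      Category.assoc, hga]

variable {φ : ∀ T : Over (Spec (CommRingCat.of k)), PicF.Cl (PicF.XT A.hom T) → (T ⟶ At)}
  (hφ : AbDual.IsDualAV Scheme.fppfPrecoverage A At φ) {P : (A ⊗ At).left.Modules} (hP : PicF.IsInvertible P)
  (hξ : AbDual.IsPoincareCl A At φ (PicF.cl P))

include hφ hξ in
/-- The slice at the unit is trivial. -/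
theorem triv_slice_one : Triv ((Scheme.Modules.pullback (AVPhi.slice A At 1).left).obj P) := by
  refine (CubeAb.cl_eq_one_iff _).1 ?_
  show pl (AVPhi.slice A At 1) (PicF.cl P) = 1
  rw [show AVPhi.slice A At 1 = lift (𝟙 A) (1 : A ⟶ At) by
    show lift (𝟙 A) (toUnit A ≫ (1 : 𝟙_ _ ⟶ At)) = _
    rw [MonObj.comp_one]]
  exact (AVDual.poincare_axes hφ hξ).2

include hφ hξ hP in
/-- The fibre over the unit carries the structure module. -/
theorem triv_fiberMod_org : Triv (CohIII.fiberMod (snd A At).left P (org At)) := by
  obtain ⟨τ, hτ⟩ := exists_fibre_slice (X := A) (1 : 𝟙_ (Over (Spec (CommRingCat.of k))) ⟶ At)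
  have h := (triv_comp_iff τ (AVPhi.slice A At 1).left).1 ((triv_slice_one hφ hξ).pullback τ)
  rw [triv_congr hτ, one_pt] at h
  exact h

theorem isProper_snd : IsProper (snd A At).left := inferInstanceAs (IsProper (pullback.snd A.hom At.hom))

theorem hasModels_poincare : PicF.IsInvertible P → CExt24.HasModels (snd A At).left P := fun hP => by
  haveI := isProper_snd (A := A) (At := At)
  haveI : Flat (snd A At).left := inferInstanceAs (Flat (pullback.snd A.hom At.hom))
  haveI : IsLocallyNoetherian At.left := LocallyOfFiniteType.isLocallyNoetherian At.hom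
  haveI : IsLocallyNoetherian (A ⊗ At).left := LocallyOfFiniteType.isLocallyNoetherian (snd A At).left
  exact CExt24.hasModels (snd A At).left (ProjUPX.isQCoh_of_isInvertible hP)
    (KZ.LFRes.isFP_of_isCoh (CurveDeg.isCoh_of_isInvertible hP))
    (H23.Seesaw.isFlatOver_of_isInvertible _ hP)

include hφ hξ hP in
/-- Away from the unit no fibre has cohomology. -/
theorem subsingleton_fiberH_away (p : ℕ) {z : At.left} (hz : z ≠ org At) :
    Subsingleton (CohIII.fiberH (snd A At).left P z p) := by
  haveI : Flat (snd A At).left := inferInstanceAs (Flat (pullback.snd A.hom At.hom))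
  haveI : JacobsonSpace At.left := LocallyOfFiniteType.jacobsonSpace At.hom
  have hopen := CExt24.isOpen_subsingleton_fiberH (hasModels_poincare hP) (ProjUPX.isQCoh_of_isInvertible hP) p
  by_contra hbad
  have hcl : IsLocallyClosed (closure {z} ∩ {org At}ᶜ) :=
    isClosed_closure.isLocallyClosed.inter
      (show IsClosed ({org At} : Set At.left) from isClosed_pt η[At]).isOpen_compl.isLocallyClosed
  obtain ⟨w, ⟨hw, hw'⟩, hwc⟩ := nonempty_inter_closedPoints (Z := closure {z} ∩ {org At}ᶜ) ⟨z, subset_closure rfl, hz⟩ hcl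
  obtain ⟨⟨a, ha⟩, hay⟩ := (pointEquivClosedPoint At.hom).surjective ⟨w, hwc⟩
  obtain rfl : a (IsLocalRing.closedPoint k) = w := congrArg Subtype.val hay
  let a' : 𝟙_ (Over (Spec (CommRingCat.of k))) ⟶ At := Over.homMk a ha
  have hs : Subsingleton (CohIII.fiberH (snd A At).left P (a'.left (IsLocalRing.closedPoint k)) p) :=
    (AVPhi.subsingleton_fiberH_iff_slice A At P (ProjUPX.isQCoh_of_isInvertible hP) a' p).2
      (subsingleton_HH_slice hφ hξ hP a' (fun h => hw' (by
        show a'.left (IsLocalRing.closedPoint k) ∈ ({org At} : Set At.left)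
        rw [h, one_pt]
        exact Set.mem_singleton _)) p)
  exact hbad ((specializes_iff_mem_closure.2 hw).mem_open hopen hs)

include hφ hξ hP in
/-- No fibre has cohomology above the dimension. -/
theorem subsingleton_fiberH_high {g : ℕ} (hg : topologicalKrullDim A.left = g) {p : ℕ} (hp : g < p) (z : At.left) :
    Subsingleton (CohIII.fiberH (snd A At).left P z p) := by
  by_cases hz : z = org At
  · subst hz
    haveI : IsLocallyNoetherian A.left := LocallyOfFiniteType.isLocallyNoetherian A.hom
    haveI : CompactSpace A.left := QuasiCompact.compactSpace_of_compactSpace A.hom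
    haveI : IsNoetherian A.left := {}
    haveI : A.left.IsSeparated := ⟨by
      rw [← Limits.terminal.comp_from A.hom]
      infer_instance⟩
    rw [← one_pt]
    exact (AVPhi.subsingleton_fiberH_iff_slice A At P (ProjUPX.isQCoh_of_isInvertible hP) 1 p).2
      (Snapper.subsingleton_HH_of_dim_le hg.le (QCoh.isQCoh_pullback _ (ProjUPX.isQCoh_of_isInvertible hP)) hp)
  · exact subsingleton_fiberH_away hφ hP hξ p hz

include hφ hξ hP in
/-- The fibre over the unit has one section. -/
theorem fiberRank_org : CohIII.fiberRank (snd A At).left P 0 (org At) = 1 := by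
  let f := (snd A At).left
  let y := org At
  obtain ⟨e⟩ := triv_fiberMod_org hφ hP hξ
  letI : (f.fiber y).Over (Spec (CommRingCat.of (At.left.residueField y))) := ⟨f.fiberToSpecResidueField y⟩
  haveI : IsProper f := isProper_snd
  haveI : GeometricallyIntegral f := inferInstanceAs (GeometricallyIntegral (pullback.snd A.hom At.hom))
  haveI : GeometricallyIntegral (f.fiberToSpecResidueField y) :=
    MorphismProperty.pullback_snd (P := @GeometricallyIntegral) f (At.left.fromSpecResidueField y) inferInstance
  haveI : IsProper (f.fiber y ↘ Spec (CommRingCat.of (At.left.residueField y))) :=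
    MorphismProperty.pullback_snd (P := @IsProper) f (At.left.fromSpecResidueField y) inferInstance
  haveI : GeometricallyReduced (f.fiber y ↘ Spec (CommRingCat.of (At.left.residueField y))) :=
    inferInstanceAs (GeometricallyReduced (f.fiberToSpecResidueField y))
  haveI : GeometricallyConnected (f.fiber y ↘ Spec (CommRingCat.of (At.left.residueField y))) :=
    AVTors.geometricallyConnected_of_irreducible (f.fiberToSpecResidueField y)
  have h1 := GeomField.finrank_HH_zero (At.left.residueField y) (f.fiber y)
  rw [GeomField.finrank_globalFunctions_eq_one (At.left.residueField y) (f.fiber y)] at h1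
  refine Eq.trans ?_ h1
  let ev : Coh.HH (f.fiber y) (CohIII.fiberMod f P y) 0 ≃ₗ[At.left.residueField y]
      Coh.HH (f.fiber y) (Coh.structureModule (f.fiber y)) 0 :=
    { CExt24.mapHEquiv e 0 with map_smul' := fun c x => CExt24.map_smul_mapH e.hom _ 0 x }
  exact ev.finrank_eq

end Groth.Agent.AVPoinc
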