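import Groth.Agent.AVPoinc.ExtTop
import Groth.Agent.CAlgOdd.Acyclicity
import Groth.Agent.AvramovLib.Ps
import Mathlib.LinearAlgebra.Dual.Basis
import Mathlib.RingTheory.Ideal.AssociatedPrime.Basic
import Mathlib.Algebra.Homology.ShortComplex.ModuleCat
import Mathlib.RingTheory.KrullDimension.Field
import Mathlib.RingTheory.Regular.Flat

/-!
Finite free complexes over a regular local ring with homology of finite length, of length equal to the
dimension: if the dual complex has cokernel the residue field, so does the complex.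
-/

noncomputable section

set_option linter.style.haveILetI false
set_option linter.unusedSectionVars false
set_option maxHeartbeats 800000

universe u

open CategoryTheory CategoryTheory.Limits IsLocalRing

namespace Groth.Agent.AVPoinc

variable {R : Type u} [CommRing R] [IsLocalRing R] [IsNoetherianRing R]

theorem depth_le_of_free (M : Type u) [AddCommGroup M] [Module R M] [Module.Free R M] :
    LocCoh.depth R R ≤ LocCoh.depth R M := by
  unfold LocCoh.depth LocCoh.idealDepth
  by_cases h : maximalIdeal R • (⊤ : Submodule R M) = ⊤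
  · rw [if_pos h]; exact le_top
  rw [if_neg h, if_neg (by rw [smul_eq_mul, Ideal.mul_top]; exact (maximalIdeal.isMaximal R).ne_top)]
  refine iSup₂_le fun rs hrs => le_iSup₂_of_le rs ⟨?_, hrs.2⟩ le_rfl
  exact ((TensorProduct.rid R M).isWeaklyRegular_congr rs).1 (hrs.1.isWeaklyRegular_lTensor (M₂ := M))

theorem exactAt_iff_elem (C : ChainComplex (ModuleCat.{u} R) ℕ) (j : ℕ) :
    C.ExactAt (j + 1) ↔ ∀ z : C.X (j + 1), C.d (j + 1) j z = 0 → ∃ w, C.d (j + 1 + 1) (j + 1) w = z := by
  rw [HomologicalComplex.exactAt_iff' C (j + 1 + 1) (j + 1) j (by simp) (by simp), ShortComplex.moduleCat_exact_iff]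
  rfl

/-- Acyclicity: a finite free complex of length at most the depth whose higher homology is killed by
powers of the maximal ideal is exact in positive degrees. -/
theorem exactAt_of_killed (C : ChainComplex (ModuleCat.{u} R) ℕ) (e : ℕ)
    (hdepth : (e : ℕ∞) ≤ LocCoh.depth R R) (hzero : ∀ j, e < j → IsZero (C.X j))
    (hfin : ∀ j, Module.Finite R (C.X j)) (hfree : ∀ j, Module.Free R (C.X j))
    (hkill : ∀ a ∈ maximalIdeal R, ∀ (j : ℕ) (z : C.X (j + 1)), C.d (j + 1) j z = 0 →
      ∃ (n : ℕ) (w : C.X (j + 1 + 1)), C.d (j + 1 + 1) (j + 1) w = a ^ n • z) :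
    ∀ j, C.ExactAt (j + 1) := by
  have hd : ∀ j, j ≤ e → CAlgOdd.Acyclicity.DepthGE j (C.X j) := fun j hj => by
    haveI := hfin j
    haveI := hfree j
    rw [CAlgOdd.Acyclicity.depthGE_iff]
    rcases subsingleton_or_nontrivial (C.X j) with h | h
    · exact (CAlgOdd.Acyclicity.depthGE_iff j (C.X j)).1
        (CAlgOdd.Acyclicity.depthGE_of_isZero j (ModuleCat.isZero_of_subsingleton _))
    · refine le_trans ?_ (depth_le_of_free (C.X j))
      exact le_trans (by exact_mod_cast hj) hdepth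
  suffices H : ∀ k j, e + 1 - (j + 1) = k → C.ExactAt (j + 1) from fun j => H _ j rfl
  intro k
  induction k using Nat.strong_induction_on with
  | _ k ih =>
    intro j hj
    by_cases hje : e < j + 1
    · exact ShortComplex.exact_of_isZero_X₂ _ (hzero _ hje)
    have habove : ∀ i, j + 1 < i → C.ExactAt i := by
      intro i hi
      obtain ⟨i, rfl⟩ : ∃ i', i = i' + 1 := ⟨i - 1, by omega⟩
      by_cases hie : e < i + 1
      · exact ShortComplex.exact_of_isZero_X₂ _ (hzero _ hie)
      · exact ih _ (by omega) i rfl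
    have h1 := CAlgOdd.Acyclicity.depthGE_one_homology C e hzero hd (j + 1) habove (Nat.succ_pos j) 0 Nat.one_pos
    rw [HomologicalComplex.exactAt_iff_isZero_homology]
    haveI := hfin (j + 1)
    haveI : Module.Finite R (C.cycles (j + 1)) := Module.Finite.of_injective (C.iCycles (j + 1)).hom
      ((ModuleCat.mono_iff_injective _).mp inferInstance)
    haveI : Module.Finite R (C.homology (j + 1)) := Module.Finite.of_surjective (C.homologyπ (j + 1)).hom
      ((ModuleCat.epi_iff_surjective _).mp inferInstance)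
    refine ModuleCat.isZero_iff_subsingleton.2 (not_nontrivial_iff_subsingleton.1 fun hnt => ?_)
    obtain ⟨p, hp⟩ := associatedPrimes.nonempty R (C.homology (j + 1))
    obtain ⟨hpp, x, hpx⟩ := isAssociatedPrime_iff.1 hp
    have hmax : maximalIdeal R ≤ p := by
      intro a ha
      obtain ⟨c, rfl⟩ := (ModuleCat.epi_iff_surjective (C.homologyπ (j + 1))).1 inferInstance x
      have hc : C.d (j + 1) j ((C.iCycles (j + 1)).hom c) = 0 :=
        congrArg (fun φ => φ.hom c) (C.iCycles_d (j + 1) j)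
      obtain ⟨n, w, hw⟩ := hkill a ha j _ hc
      refine hpp.mem_of_pow_mem n ?_
      rw [hpx, Submodule.mem_colon_singleton, Submodule.mem_bot]
      have hcyc : (C.toCycles (j + 1 + 1) (j + 1)).hom w = a ^ n • c := by
        refine (ModuleCat.mono_iff_injective (C.iCycles (j + 1))).1 inferInstance ?_
        rw [← ModuleCat.comp_apply, C.toCycles_i]
        exact hw.trans (map_smul (C.iCycles (j + 1)).hom _ _).symm
      rw [← map_smul, ← hcyc]
      exact congrArg (fun φ => φ.hom w) (C.toCycles_comp_homologyπ (j + 1 + 1) (j + 1))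
    have hpm : p = maximalIdeal R := le_antisymm (IsLocalRing.le_maximalIdeal hpp.ne_top) hmax
    let φ : (R ⧸ maximalIdeal R) →ₗ[R] C.homology (j + 1) :=
      Submodule.liftQ _ (LinearMap.toSpanSingleton R _ x) fun a ha => by
        rw [← hpm, hpx, Submodule.mem_colon_singleton, Submodule.mem_bot] at ha
        exact ha
    haveI := h1
    haveI : Subsingleton (ModuleCat.of R (R ⧸ maximalIdeal R) ⟶ C.homology (j + 1)) :=
      Abelian.Ext.addEquiv₀.symm.subsingleton
    have h0 : φ = 0 := congrArg (fun f : ModuleCat.of R (R ⧸ maximalIdeal R) ⟶ C.homology (j + 1) => f.hom)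
      (Subsingleton.elim (ModuleCat.ofHom φ) 0)
    have hx : x = 0 := by
      have h2 := LinearMap.congr_fun h0 (Submodule.Quotient.mk 1)
      rw [show φ (Submodule.Quotient.mk 1) = (1 : R) • x from rfl, one_smul, LinearMap.zero_apply] at h2
      exact h2
    refine hpp.ne_top ?_
    rw [hpx, Ideal.eq_top_iff_one, Submodule.mem_colon_singleton, hx, smul_zero]
    exact zero_mem _

variable (P : ChainComplex (ModuleCat.{u} R) ℤ) (g : ℕ)

/-- Per degree, multiplication by a power of `a` is null homotopic. -/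
theorem exists_homotopy (hfree : ∀ i, Module.Free R (P.X i)) (hlow : ∀ i : ℤ, i < -(g : ℤ) → IsZero (P.X i)) (a : R)
    (hkill : ∃ n, ∀ (q : ℤ) (z : P.X q), P.d q (q - 1) z = 0 → ∃ w : P.X (q + 1), P.d (q + 1) q w = a ^ n • z) :
    ∀ (k : ℕ) (q : ℤ), q = -(g : ℤ) + k → ∃ (N : ℕ) (h : P.X q →ₗ[R] P.X (q + 1)) (h' : P.X (q - 1) →ₗ[R] P.X q),
      ∀ x : P.X q, a ^ N • x = P.d (q + 1) q (h x) + h' (P.d q (q - 1) x) := by
  obtain ⟨n, hn⟩ := hkill
  have lift : ∀ (q : ℤ) (y : P.X q →ₗ[R] P.X q), (∀ x, P.d q (q - 1) (y x) = 0) →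
      ∃ h : P.X q →ₗ[R] P.X (q + 1), ∀ x, P.d (q + 1) q (h x) = a ^ n • y x := by
    intro q y hy
    let d := (P.d (q + 1) q).hom
    let y' : P.X q →ₗ[R] LinearMap.range d := (a ^ n • y).codRestrict _ fun x => hn q _ (hy x)
    haveI := hfree q
    obtain ⟨h, hh⟩ := Module.projective_lifting_property d.rangeRestrict y' (LinearMap.surjective_rangeRestrict d)
    exact ⟨h, fun x => congrArg Subtype.val (LinearMap.congr_fun hh x)⟩
  intro k
  induction k with
  | zero =>
    intro q hq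
    haveI : Subsingleton (P.X (q - 1)) := ModuleCat.subsingleton_of_isZero (hlow _ (by omega))
    obtain ⟨h, hh⟩ := lift q LinearMap.id fun x => Subsingleton.elim _ _
    refine ⟨n, h, 0, fun x => ?_⟩
    rw [hh, LinearMap.zero_apply, add_zero]
    rfl
  | succ k ih =>
    intro q hq
    obtain ⟨p, rfl⟩ : ∃ p, q = p + 1 := ⟨q - 1, by omega⟩
    obtain ⟨N, h, h', hhh⟩ := ih p (by omega)
    let e : P.X (p + 1 - 1) →ₗ[R] P.X (p + 1) :=
      h ∘ₗ (eqToHom (congrArg P.X (show p + 1 - 1 = p by omega))).hom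
    have cast_d : ∀ (i i' : ℤ) (hi : i = i'), P.d (p + 1) i ≫ eqToHom (congrArg P.X hi) = P.d (p + 1) i' :=
      fun i i' hi => by subst hi; simp
    have he : ∀ x : P.X (p + 1), e (P.d (p + 1) (p + 1 - 1) x) = h (P.d (p + 1) p x) := fun x =>
      congrArg h (congrArg (fun φ : P.X (p + 1) ⟶ P.X p => φ.hom x) (cast_d _ _ (show p + 1 - 1 = p by omega)))
    let y : P.X (p + 1) →ₗ[R] P.X (p + 1) :=
      a ^ N • LinearMap.id - h ∘ₗ (P.d (p + 1) p).hom
    have hy : ∀ x, P.d (p + 1) (p + 1 - 1) (y x) = 0 := by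
      intro x
      have h0 : P.d (p + 1) p (y x) = 0 := by
        show (P.d (p + 1) p).hom (a ^ N • x - h (P.d (p + 1) p x)) = 0
        rw [map_sub, map_smul, hhh (P.d (p + 1) p x)]
        have h2 : P.d p (p - 1) (P.d (p + 1) p x) = 0 :=
          congrArg (fun φ : P.X (p + 1) ⟶ P.X (p - 1) => φ.hom x) (P.d_comp_d (p + 1) p (p - 1))
        rw [h2, map_zero, add_zero, sub_self]
      rw [show p + 1 - 1 = p by omega]
      exact h0
    obtain ⟨h₂, hh₂⟩ := lift (p + 1) y hy
    refine ⟨n + N, h₂, a ^ n • e, fun x => ?_⟩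
    rw [hh₂, LinearMap.smul_apply, he, pow_add, mul_smul, ← smul_add]
    show _ = a ^ n • ((a ^ N • x - h (P.d (p + 1) p x)) + h (P.d (p + 1) p x))
    rw [sub_add_cancel]

/-- The dual complex. -/
def dualCx : ChainComplex (ModuleCat.{u} R) ℕ :=
  ChainComplex.of (fun j => ModuleCat.of R (Module.Dual R (P.X (-(j : ℤ)))))
    (fun j => ModuleCat.ofHom (P.d (-(j : ℤ)) (-((j + 1 : ℕ) : ℤ))).hom.dualMap)
    (fun j => ModuleCat.hom_ext (LinearMap.ext fun φ => LinearMap.ext fun x => by
      show φ (P.d (-((j + 1 : ℕ) : ℤ)) (-((j + 1 + 1 : ℕ) : ℤ)) (P.d (-(j : ℤ)) (-((j + 1 : ℕ) : ℤ)) x)) = _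
      rw [← ModuleCat.comp_apply, P.d_comp_d]
      exact map_zero φ))

/-- The complex reindexed from the bottom. -/
def revCx : ChainComplex (ModuleCat.{u} R) ℕ :=
  ChainComplex.of (fun j => P.X ((j : ℤ) - g)) (fun j => P.d (((j + 1 : ℕ) : ℤ) - g) ((j : ℤ) - g))
    (fun j => P.d_comp_d _ _ _)

theorem dualCx_d (j : ℕ) :
    (dualCx P).d (j + 1) j = ModuleCat.ofHom (P.d (-(j : ℤ)) (-((j + 1 : ℕ) : ℤ))).hom.dualMap := by
  simp [dualCx]

theorem revCx_d (j : ℕ) : (revCx P g).d (j + 1) j = P.d (((j + 1 : ℕ) : ℤ) - g) ((j : ℤ) - g) := by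
  simp [revCx]

variable (hfin : ∀ i, Module.Finite R (P.X i)) (hfree : ∀ i, Module.Free R (P.X i))
  (hlow : ∀ i : ℤ, i < -(g : ℤ) → IsZero (P.X i))
  (hkill : ∀ a ∈ maximalIdeal R, ∃ n, ∀ (q : ℤ) (z : P.X q), P.d q (q - 1) z = 0 →
    ∃ w : P.X (q + 1), P.d (q + 1) q w = a ^ n • z)
  (hdepth : (g : ℕ∞) ≤ LocCoh.depth R R)

include hfin hfree hlow hkill hdepth

theorem exactAt_dualCx : ∀ j, (dualCx P).ExactAt (j + 1) := by
  refine exactAt_of_killed _ g hdepth (fun j hj => ?_) (fun j => ?_) (fun j => ?_) fun a ha j z hz => ?_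
  · haveI : Subsingleton (P.X (-(j : ℤ))) := ModuleCat.subsingleton_of_isZero (hlow _ (by omega))
    exact ModuleCat.isZero_of_subsingleton (ModuleCat.of R (Module.Dual R (P.X (-(j : ℤ)))))
  · haveI := hfin (-(j : ℤ))
    haveI := hfree (-(j : ℤ))
    exact inferInstanceAs (Module.Finite R (Module.Dual R (P.X (-(j : ℤ)))))
  · haveI := hfin (-(j : ℤ))
    haveI := hfree (-(j : ℤ))
    exact inferInstanceAs (Module.Free R (Module.Dual R (P.X (-(j : ℤ)))))
  · rw [dualCx_d] at hz
    let q : ℤ := -((j + 1 : ℕ) : ℤ)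
    let φ : P.X q →ₗ[R] R := z
    have hφ : ∀ x, φ (P.d (-(j : ℤ)) q x) = 0 := fun x => LinearMap.congr_fun hz x
    by_cases hq : q < -(g : ℤ)
    · haveI : Subsingleton (P.X q) := ModuleCat.subsingleton_of_isZero (hlow _ hq)
      refine ⟨0, 0, ?_⟩
      rw [map_zero, pow_zero, one_smul]
      exact (LinearMap.ext fun x => by rw [Subsingleton.elim x 0, map_zero, map_zero] : (0 : P.X q →ₗ[R] R) = φ)
    obtain ⟨N, h, h', hh⟩ := exists_homotopy P g hfree hlow a (hkill a ha) (q + g).toNat q (by omega)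
    refine ⟨N, φ ∘ₗ h' ∘ₗ (eqToHom (congrArg P.X (show -((j + 1 + 1 : ℕ) : ℤ) = q - 1 by simp only [q]; omega))).hom, ?_⟩
    rw [dualCx_d]
    refine LinearMap.ext fun x => ?_
    show φ (h' _) = a ^ N • φ x
    rw [← map_smul, hh x, map_add]
    have h3 : φ (P.d (q + 1) q (h x)) = 0 := by
      have e : ∀ (i : ℤ) (_ : i = -(j : ℤ)) (y : P.X i), φ (P.d i q y) = 0 := fun i hi y => by subst hi; exact hφ y
      exact e _ (by simp only [q]; omega) _
    rw [h3, zero_add]
    refine congrArg φ (congrArg h' ?_)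
    have e : ∀ (i i' : ℤ) (hi : i = i'), P.d q i ≫ eqToHom (congrArg P.X hi) = P.d q i' := fun i i' hi => by
      subst hi; simp
    exact congrArg (fun φ => φ.hom x) (e _ _ (show -((j + 1 + 1 : ℕ) : ℤ) = q - 1 by simp only [q]; omega))

theorem exactAt_revCx (hhigh : ∀ i : ℤ, 0 < i → IsZero (P.X i)) : ∀ j, (revCx P g).ExactAt (j + 1) := by
  refine exactAt_of_killed _ g hdepth (fun j hj => hhigh _ (by omega)) (fun j => hfin _) (fun j => hfree _)
    fun a ha j z hz => ?_
  obtain ⟨n, hn⟩ := hkill a ha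
  rw [revCx_d] at hz
  have e1 : ∀ (q i : ℤ) (z : P.X q), i = q - 1 → P.d q i z = 0 → P.d q (q - 1) z = 0 := fun q i z hi h => by
    subst hi; exact h
  obtain ⟨w, hw⟩ := hn _ z (e1 _ _ _ (by omega) hz)
  rw [revCx_d]
  have e2 : ∀ (q i i' : ℤ) (z : P.X q), i = i' → (∃ w, P.d i q w = z) → ∃ w, P.d i' q w = z := fun q i i' z hi h => by
    subst hi; exact h
  obtain ⟨w', hw'⟩ := e2 _ _ (((j + 1 + 1 : ℕ) : ℤ) - g) _ (by omega) ⟨w, hw⟩
  exact ⟨n, w', hw'⟩

end Groth.Agent.AVPoinc
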