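import Groth.Agent.AVPoinc.Skyscraper
import Groth.Agent.AVPoinc.EulerSq
import Groth.Agent.AVPhi.Leray
import Groth.Agent.QCoh.AnnIdeal
import Groth.Agent.QCoh.DevissageP
import Groth.Agent.AVIdx.EulerPull
import Groth.Agent.CurveCohLib.Proper
import Groth.Agent.AmpleVan.ThickPush

/-!
Coherent modules of finite support and Euler characteristic one are skyscrapers at any rational point of their support.
-/

set_option linter.style.haveILetI false
set_option linter.unusedSectionVars false
set_option backward.isDefEq.respectTransparency false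
set_option backward.isDefEq.respectTransparency.types false
set_option autoImplicit false
set_option maxHeartbeats 800000

universe u

open CategoryTheory CategoryTheory.Limits MonoidalCategory CartesianMonoidalCategory MonObj AlgebraicGeometry
open TopologicalSpace

noncomputable section

namespace Groth.Agent.AVPoinc

open Groth.Agent

variable {k : Type u} [Field k] {X : Scheme.{u}} [X.Over (Spec (CommRingCat.of k))]
  [IsProper (X ↘ Spec (CommRingCat.of k))]

/-- A coherent module of finite support with Euler characteristic one is the skyscraper at a rational point of its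
support. -/
theorem nonempty_iso_skyscraper_of_mem (i : Spec (CommRingCat.of k) ⟶ X)
    (hi : i ≫ (X ↘ Spec (CommRingCat.of k)) = 𝟙 _) {M : X.Modules} (hM : Coh.IsCoh M)
    {T : Set X} (hT : T.Finite) (hcl : ∀ x ∈ T, IsClosed ({x} : Set X))
    (hs : CohB1.support M ⊆ T) (hi0 : i (IsLocalRing.closedPoint k) ∈ CohB1.support M) (hχ : Curv2.euler k X M = 1) :
    Nonempty (M ≅ (Coh.push i).obj (Coh.structureModule (Spec (CommRingCat.of k)))) := by
  haveI : IsClosedImmersion i :=
    isClosedImmersion_of_comp_eq_id (Y := Spec (CommRingCat.of k)) (X ↘ Spec (CommRingCat.of k)) i hi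
  haveI : Subsingleton ↥(Spec (CommRingCat.of k)) := inferInstanceAs (Subsingleton (PrimeSpectrum k))
  haveI : AlgebraicGeometry.IsNoetherian X := CurveCohLib.isNoetherian_of_proper (k := k) (X := X)
  letI : (Spec (CommRingCat.of k)).Over (Spec (CommRingCat.of k)) := ⟨𝟙 _⟩
  haveI : IsProper ((Spec (CommRingCat.of k)) ↘ Spec (CommRingCat.of k)) :=
    inferInstanceAs (IsProper (𝟙 (Spec (CommRingCat.of k))))
  haveI : AlgebraicGeometry.IsNoetherian (Spec (CommRingCat.of k)) :=
    CurveCohLib.isNoetherian_of_proper (k := k) (X := Spec (CommRingCat.of k))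
  let pt := i (IsLocalRing.closedPoint k)
  let adj := Scheme.Modules.pullbackPushforwardAdjunction i
  let N := (Scheme.Modules.pullback i).obj M
  have hNq : Coh.IsQCoh N := QCoh.isQCoh_pullback i hM.1
  have hN : Coh.IsCoh N := ⟨hNq, QCoh.isFT_pullback i hM.1 hM.2⟩
  let I := (Scheme.Modules.pushforward i).obj N
  have hI : Coh.IsCoh I := QCoh.isCoh_push i hN
  let u : M ⟶ I := adj.unit.app M
  have hu : u ≠ 0 := fun h => by
    have h1 : 𝟙 N = 0 := by
      apply (adj.homEquiv M N).injective
      rw [adj.homEquiv_unit, adj.homEquiv_unit, CategoryTheory.Functor.map_id, Functor.map_zero, comp_zero]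
      exact (Category.comp_id _).trans h
    have hz : IsZero N := (IsZero.iff_id_eq_zero _).2 h1
    have hmem : IsLocalRing.closedPoint k ∈ CohB1.support N := by
      rw [QCoh.support_pullback i hM.1 hM.2]
      exact hi0
    rw [QCoh.support_eq_empty_of_isZero hz hNq] at hmem
    exact hmem
  let K := kernel u
  let C := cokernel (kernel.ι u)
  have hK : Coh.IsCoh K := QCoh.isCoh_kernel hM hI u
  have hC : Coh.IsCoh C := QCoh.isCoh_cokernel hK.1 hM (kernel.ι u)
  let S := ShortComplex.mk (kernel.ι u) (cokernel.π (kernel.ι u)) (cokernel.condition _)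
  have hS : S.ShortExact :=
    { exact := ShortComplex.exact_of_g_is_cokernel _ (cokernelIsCokernel _) }
  have hadd := (HilbPoly.additive_euler (X := X) k).add S hS hK hM hC
  have hsK : CohB1.support K ⊆ T := fun x hx =>
    hs (QCoh.mem_support_of_mono hK.1 hM.1 (kernel.ι u) hx)
  have hsC : CohB1.support C ⊆ T :=
    (QCoh.support_of_epi hM.1 hC.1 (cokernel.π (kernel.ι u))).trans hs
  have hCne : ¬ IsZero C := fun h => by
    refine hu ?_
    haveI : Epi (kernel.ι u) := by
      refine Preadditive.epi_of_cokernel_zero ?_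
      exact h.eq_of_tgt _ _
    rw [← cancel_epi (kernel.ι u), kernel.condition, comp_zero]
  have hCpos := euler_pos_of_finite_support (k := k) hC hT hcl hsC hCne
  have hKz : IsZero K := by
    by_contra hKne
    have hKpos := euler_pos_of_finite_support (k := k) hK hT hcl hsK hKne
    change Curv2.euler k X M = Curv2.euler k X K + Curv2.euler k X C at hadd
    omega
  haveI : Mono u := Preadditive.mono_of_kernel_zero (hKz.eq_of_src _ _)
  obtain ⟨e⟩ := AmpleVan.exists_eq_push i hM.1 fun U a ha s => by
    have hinj : Function.Injective (u.app U.1) := by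
      haveI : Mono ((Scheme.Modules.toPresheaf X).map u) := inferInstance
      haveI : Mono (((Scheme.Modules.toPresheaf X).map u).app (.op U.1)) := inferInstance
      exact (AddCommGrpCat.mono_iff_injective (((Scheme.Modules.toPresheaf X).map u).app (.op U.1))).1 inferInstance
    apply hinj
    rw [map_zero]
    refine (Scheme.Modules.Hom.app_smul u a s).trans ?_
    rw [FComplLib.ideal_ker, RingHom.mem_ker] at ha
    show (i.app U.1).hom a • (show Γ(N, i ⁻¹ᵁ U.1) from u.app U.1 s) = 0
    rw [ha, zero_smul]
  have htop : IsAffineOpen (⊤ : (Spec (CommRingCat.of k)).Opens) := isAffineOpen_top _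
  have hNf : FlatMod.IsFinLocFree N := QCoh.isFlat_and_isFP_iff.1 ⟨fun x =>
    (QCoh.flat_sections_iff hN.1 htop).1 (by
      letI := ((Scheme.ΓSpecIso (CommRingCat.of k)).commRingCatIsoToRingEquiv.toMulEquiv.isField
        (Field.toIsField k)).toField
      infer_instance) x trivial, KZ.LFRes.isFP_of_isCoh hN⟩
  haveI : Nonempty ↥(Spec (CommRingCat.of k)) := inferInstanceAs (Nonempty (PrimeSpectrum k))
  obtain ⟨m, ⟨eN⟩⟩ := AVPhi.exists_iso_freeMod hNf
  have hm : (m : ℤ) = 1 := by
    rw [← hχ, CurveCohLib.euler_congr (k := k) (e ≪≫ (Scheme.Modules.pushforward i).mapIso eN),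
      show Curv2.euler k X ((Scheme.Modules.pushforward i).obj (FlatMod.freeMod (Spec (CommRingCat.of k)) m)) =
        Curv2.euler k (Spec (CommRingCat.of k)) (FlatMod.freeMod (Spec (CommRingCat.of k)) m) from
        VarBase.euler_push i k hi (SheafHomX.isCoh_of_iso eN hN).1,
      show Curv2.euler k _ (FlatMod.freeMod (Spec (CommRingCat.of k)) m) = _ from
        euler_copies QCoh.isCoh_structureModule' m, euler_specField, _root_.mul_one]
  obtain rfl : m = 1 := by exact_mod_cast hm
  exact ⟨e ≪≫ (Scheme.Modules.pushforward i).mapIso (eN ≪≫ (coproductUniqueIso _))⟩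

end Groth.Agent.AVPoinc
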