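import Groth.Agent.AVPoinc.AnyField
import Groth.Agent.AVPoinc.Skyscraper2
import Groth.Agent.AbSchX.Bidual.Field
import Groth.Agent.FMX.Transl
import Groth.Agent.AVPhi.Fibres
import Groth.Agent.AVIdx.LerayCorner

/-!
The higher direct images of a Poincaré bundle along the projection to the abelian variety itself.
-/

set_option linter.style.haveILetI false
set_option linter.unusedSectionVars false
set_option backward.isDefEq.respectTransparency false
set_option backward.isDefEq.respectTransparency.types false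
set_option autoImplicit false
set_option maxHeartbeats 1600000

universe u

open CategoryTheory CategoryTheory.Limits MonoidalCategory CartesianMonoidalCategory MonObj AlgebraicGeometry
open TopologicalSpace

noncomputable section

namespace Groth.Agent.AVPoinc

open Groth.Agent Groth.Agent.H23 Groth.Agent.AVPair Groth.Agent.AVAmple
open scoped Groth.Agent.H23.PicMul

theorem swap_left_fst {S : Scheme.{u}} (X Y : Over S) :
    (lift (snd Y X) (fst Y X) : Y ⊗ X ⟶ X ⊗ Y).left ≫ pullback.fst X.hom Y.hom = pullback.snd Y.hom X.hom :=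
  by show _ ≫ (fst X Y).left = (snd Y X).left; rw [← Over.comp_left, lift_fst]

theorem swap_left_snd {S : Scheme.{u}} (X Y : Over S) :
    (lift (snd Y X) (fst Y X) : Y ⊗ X ⟶ X ⊗ Y).left ≫ pullback.snd X.hom Y.hom = pullback.fst Y.hom X.hom :=
  by show _ ≫ (snd X Y).left = (fst Y X).left; rw [← Over.comp_left, lift_snd]

section AlgClosed

variable {k : Type u} [Field k] [IsAlgClosed k] {A At : Over (Spec (CommRingCat.of k))} [GrpObj A] [IsProper A.hom]
  [GeometricallyIntegral A.hom] [GrpObj At] [IsProper At.hom] [GeometricallyIntegral At.hom]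
  {φ : ∀ T : Over (Spec (CommRingCat.of k)), PicF.Cl (PicF.XT A.hom T) → (T ⟶ At)}
  (hφ : AbDual.IsDualAV Scheme.fppfPrecoverage A At φ) {P : (A ⊗ At).left.Modules} (hP : PicF.IsInvertible P)
  (hξ : AbDual.IsPoincareCl A At φ (PicF.cl P))
include hφ hP hξ

/-- Only finitely many points of `A` give a trivial slice. -/
theorem finite_trivial_slices :
    Set.Finite {a : 𝟙_ (Over (Spec (CommRingCat.of k))) ⟶ A | pl (lift (toUnit At ≫ a) (𝟙 At)) (PicF.cl P) = 1} := by
  obtain ⟨c, d, hc, hd, hcd, hfix, hPZ, -, -⟩ := AbSchX.Bidual.exists_lam hφ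
  let lam : A ⟶ At := φ A (AbSchX.Bidual.Λ c d)
  have hξ1 : AVDual.PZ A At (PicF.cl P) := hξ.1
  haveI : IsIntegral A.left := GeometricallyIntegral.isIntegral_of_subsingleton A.hom
  have hE : pl (A ◁ lam) (PicF.cl P) = AbSchX.Bidual.Λ c d := by
    refine AVDual.eq_of_phi hφ (AVDual.pz_pl lam hξ1) hPZ ?_ 1 ?_
    · rw [AVDual.phi_pl hφ lam hξ1]
      show lam ≫ φ At (PicF.cl P) = lam
      rw [hξ.2.1, Category.comp_id]
    · rw [pl_pl, show lift (1 : A ⟶ A) (𝟙 A) ≫ (A ◁ lam) = lam ≫ lift (1 : At ⟶ A) (𝟙 At) by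
        rw [lift_whiskerLeft, comp_lift, MonObj.comp_one, Category.comp_id, Category.id_comp], ← pl_pl,
        (AVDual.poincare_axes hφ hξ).1, map_one]
      simp only [map_mul, pl_pl, MonObj.comp_mul, lift_fst, lift_snd, _root_.one_mul]
      rw [show pl (1 : A ⟶ A) d = 1 from pl_const hd η, pl_id, pl_id, _root_.mul_one, hcd]
  refine hfix.subset fun a ha => ?_
  have h3 := congrArg (pl lam) (show pl (lift (toUnit At ≫ a) (𝟙 At)) (PicF.cl P) = 1 from ha)
  rw [map_one, pl_pl, show lam ≫ lift (toUnit At ≫ a) (𝟙 At) = lift (toUnit A ≫ a) (𝟙 A) ≫ (A ◁ lam) by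
    ext <;> simp, ← pl_pl, hE] at h3
  simp only [map_mul, pl_pl, MonObj.comp_mul, lift_fst, lift_snd, pl_id, pl_const hd a, _root_.mul_one] at h3
  haveI : IsCommMonObj A := isCommMonObj_of_isProper_of_geometricallyIntegral A
  rw [mul_comm (toUnit A ≫ a) (𝟙 A)] at h3
  exact AVPair.eq_of_mul_inv hcd h3

variable [HasInjectiveResolutions (At ⊗ A).left.Modules]

/-- The higher direct images of the transposed bundle live on a finite set, which contains the unit if nonempty. -/
theorem support_swap :
    ∃ T : Set A.left, T.Finite ∧ (∀ y ∈ T, IsClosed ({y} : Set A.left)) ∧ ∀ p : ℕ,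
      CohB1.support ((Coh.Rpush (snd At A).left p).obj
          ((Scheme.Modules.pullback (lift (snd At A) (fst At A)).left).obj P)) ⊆ T ∧
      ((CohB1.support ((Coh.Rpush (snd At A).left p).obj
          ((Scheme.Modules.pullback (lift (snd At A) (fst At A)).left).obj P))).Nonempty →
        η[A].left (IsLocalRing.closedPoint k) ∈ CohB1.support ((Coh.Rpush (snd At A).left p).obj
          ((Scheme.Modules.pullback (lift (snd At A) (fst At A)).left).obj P))) := by
  let K := (Scheme.Modules.pullback (lift (snd At A) (fst At A)).left).obj P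
  have hK : PicF.IsInvertible K := PicClLib.isInvertible_pullback _ hP
  have hKcl : PicF.cl K = pl (lift (snd At A) (fst At A)) (PicF.cl P) :=
    rfl
  obtain ⟨h1, h2⟩ := AVDual.poincare_axes hφ hξ
  have hc : PicF.IsInvertibleCl (PicF.cl P) := ⟨P, rfl, hP⟩
  have hslice : ∀ a : 𝟙_ (Over (Spec (CommRingCat.of k))) ⟶ A,
      pl (AVPhi.slice At A a) (PicF.cl K) = pl (lift (toUnit At ≫ a) (𝟙 At)) (PicF.cl P) := fun a => by
    rw [hKcl, pl_pl]
    congr 2
    ext <;> simp
  let G := {a : 𝟙_ (Over (Spec (CommRingCat.of k))) ⟶ A | pl (lift (toUnit At ≫ a) (𝟙 At)) (PicF.cl P) = 1}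
  let T : Set A.left := (fun a => pt a) '' G
  have hTf : T.Finite := (finite_trivial_slices hφ hP hξ).image _
  have hTc : ∀ y ∈ T, IsClosed ({y} : Set A.left) := by
    rintro _ ⟨a, -, rfl⟩
    exact isClosed_pt a
  refine ⟨T, hTf, hTc, fun p => ?_⟩
  let R := (Coh.Rpush (snd At A).left p).obj K
  have hsub : CohB1.support R ⊆ T := fun y hy => by_contra fun hyT => hy
    (AVPhi.subsingleton_stalk_Rpush_of_slices At A K hK hTf hTc (fun a ha i => by
      have hne : pl (lift (toUnit At ≫ a) (𝟙 At)) (PicF.cl P) ≠ 1 := fun h => ha ⟨a, h, rfl⟩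
      have hN := PicClLib.isInvertible_pullback (AVPhi.slice At A a).left hK
      have hNcl : PicF.cl ((Scheme.Modules.pullback (AVPhi.slice At A a).left).obj K) =
          pl (lift (toUnit At ≫ a) (𝟙 At)) (PicF.cl P) :=
        hslice a
      refine AVPhi.subsingleton_HH_of_invariant hN (fun b => ?_) (fun ht => hne ?_) i
      · rw [hNcl, pl_pl, show tr b ≫ lift (toUnit At ≫ a) (𝟙 At) =
            lift (toUnit At ≫ a) (𝟙 At * (toUnit At ≫ b)) from CartesianMonoidalCategory.hom_ext _ _ (by simp)
              (by simp), add_right hc h1 h2,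
          show lift (toUnit At ≫ a) (toUnit At ≫ b) = toUnit At ≫ lift a b from (comp_lift _ _ _).symm,
          pl_const hc, _root_.mul_one]
      · rw [← hNcl]
        exact (CubeAb.cl_eq_one_iff _).2 ht) p y hyT)
  refine ⟨hsub, fun ⟨y, hy⟩ => ?_⟩
  obtain ⟨b, hb, rfl⟩ := hsub hy
  let τ := FMX.translIso b
  have hKcl' : PicF.IsInvertibleCl (PicF.cl K) := ⟨K, rfl, hK⟩
  have hinv : pl (At ◁ τ.hom) (PicF.cl K) = PicF.cl K := by
    show pl (At ◁ (𝟙 A * (toUnit A ≫ b))) _ = _
    rw [← FMX.pl_whiskerLeft_transl hKcl' (by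
        rw [hKcl, pl_pl, show lift (1 : A ⟶ At) (𝟙 A) ≫ lift (snd At A) (fst At A) = lift (𝟙 A) (1 : A ⟶ At) by
          rw [comp_lift, lift_fst, lift_snd]]
        exact h2) (by
        rw [hKcl, pl_pl, show lift (𝟙 At) (1 : At ⟶ A) ≫ lift (snd At A) (fst At A) = lift (1 : At ⟶ A) (𝟙 At) by
          rw [comp_lift, lift_fst, lift_snd]]
        exact h1) b]
    rw [show pl (lift (𝟙 At) (toUnit At ≫ b)) (PicF.cl K) = 1 from (hslice b).trans hb, map_one, _root_.one_mul]
  obtain ⟨e⟩ : Nonempty ((Scheme.Modules.pullback (At ◁ τ.hom).left).obj K ≅ K) :=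
    PicMul.cl_eq_iff.1 hinv
  haveI : IsProper (snd At A).left := inferInstanceAs (IsProper (pullback.snd At.hom A.hom))
  haveI : IsIso τ.hom.left := (inferInstance : IsIso ((Over.forget _).map τ.hom))
  haveI : IsIso (At ◁ τ.hom).left := (inferInstance : IsIso ((Over.forget _).map (At ◁ τ.hom)))
  haveI : IsLocallyNoetherian A.left := LocallyOfFiniteType.isLocallyNoetherian A.hom
  haveI : CompactSpace A.left := QuasiCompact.compactSpace_of_compactSpace A.hom
  haveI : AlgebraicGeometry.IsNoetherian A.left := {}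
  haveI : IsLocallyNoetherian (At ⊗ A).left := LocallyOfFiniteType.isLocallyNoetherian (snd At A).left
  haveI := ProjUPX.isQCoh_of_isInvertible hK
  obtain ⟨e'⟩ := Groth.Agent.S0033.result (snd At A).left τ.hom.left (At ◁ τ.hom).left (snd At A).left
    (IsPullback.of_horiz_isIso ⟨by rw [← Over.comp_left, ← Over.comp_left, whiskerLeft_snd]⟩) K p
  let v : (Scheme.Modules.pullback τ.hom.left).obj R ≅ R := e' ≪≫ (Coh.Rpush (snd At A).left p).mapIso e
  have hR : Coh.IsCoh R := VarBase.isCoh_Rpush (snd At A).left (CurveDeg.isCoh_of_isInvertible hK) p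
  have h0 : η[A].left (IsLocalRing.closedPoint k) ∈
      CohB1.support ((Scheme.Modules.pullback τ.hom.left).obj R) := by
    rw [QCoh.support_pullback τ.hom.left hR.1 hR.2]
    show τ.hom.left (η[A].left (IsLocalRing.closedPoint k)) ∈ CohB1.support R
    rw [← Scheme.Hom.comp_apply, ← Over.comp_left, show η[A] ≫ τ.hom = b by
      show η[A] ≫ (𝟙 A * (toUnit A ≫ b)) = b
      rw [MonObj.comp_mul, Category.comp_id, ← Category.assoc, toUnit_unique (η[A] ≫ toUnit A) (𝟙 _),
        Category.id_comp, MonObj.one_eq_one, _root_.one_mul]]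
    exact hy
  exact QCoh.mem_support_of_mono (QCoh.isQCoh_pullback _ hR.1) hR.1 v.hom h0

end AlgClosed

variable {k : Type u} [Field k] {A At : Over (Spec (CommRingCat.of k))} [GrpObj A] [IsProper A.hom] [Smooth A.hom]
  [GeometricallyConnected A.hom] [GrpObj At] [IsProper At.hom] [Smooth At.hom] [GeometricallyConnected At.hom]
  {φ : ∀ T : Over (Spec (CommRingCat.of k)), PicF.Cl (PicF.XT A.hom T) → (T ⟶ At)}
  (hφ : AbDual.IsDualAV Scheme.fppfPrecoverage A At φ) {P : (A ⊗ At).left.Modules}
  (hP : PicF.IsInvertible P) (hξ : AbDual.IsPoincareCl A At φ (PicF.cl P))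
  [HasInjectiveResolutions (A ⊗ At).left.Modules]
include hφ hP hξ

/-- The higher direct images along the first projection live on a finite set, which contains the unit if
nonempty. -/
theorem support_fst :
    ∃ T : Set A.left, T.Finite ∧ (∀ y ∈ T, IsClosed ({y} : Set A.left)) ∧ ∀ p : ℕ,
      CohB1.support ((Coh.Rpush (fst A At).left p).obj P) ⊆ T ∧
      ((CohB1.support ((Coh.Rpush (fst A At).left p).obj P)).Nonempty →
        η[A].left (IsLocalRing.closedPoint k) ∈ CohB1.support ((Coh.Rpush (fst A At).left p).obj P)) := by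
  classical
  let K := AlgebraicClosure k
  let σ : Spec (CommRingCat.of K) ⟶ Spec (CommRingCat.of k) := Spec.map (CommRingCat.ofHom (algebraMap k K))
  let F := Over.pullback σ
  letI : GrpObj (F.obj A) := Functor.grpObjObj
  letI : GrpObj (F.obj At) := Functor.grpObjObj
  haveI : IsProper (F.obj A).hom := inferInstanceAs (IsProper (pullback.snd A.hom σ))
  haveI : IsProper (F.obj At).hom := inferInstanceAs (IsProper (pullback.snd At.hom σ))
  haveI : Smooth (F.obj A).hom := inferInstanceAs (Smooth (pullback.snd A.hom σ))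
  haveI : Smooth (F.obj At).hom := inferInstanceAs (Smooth (pullback.snd At.hom σ))
  haveI : GeometricallyConnected (F.obj A).hom := inferInstanceAs (GeometricallyConnected (pullback.snd A.hom σ))
  haveI : GeometricallyConnected (F.obj At).hom := inferInstanceAs (GeometricallyConnected (pullback.snd At.hom σ))
  haveI := AVDual.geometricallyIntegral_of_smooth (F.obj A)
  haveI := AVDual.geometricallyIntegral_of_smooth (F.obj At)
  let w := bcProd σ A At
  let w' := bcProd σ At A
  let s : At ⊗ A ⟶ A ⊗ At := lift (snd At A) (fst At A)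
  let s' : F.obj At ⊗ F.obj A ⟶ F.obj A ⊗ F.obj At := lift (snd _ _) (fst _ _)
  let P₁ : (F.obj A ⊗ F.obj At).left.Modules := (Scheme.Modules.pullback w).obj P
  have hP₁ : PicF.IsInvertible P₁ := PicClLib.isInvertible_pullback w hP
  have hξ₁ : AbDual.IsPoincareCl (F.obj A) (F.obj At) (AbSchX.Bidual.phiBC σ φ) (PicF.cl P₁) :=
    isPoincareCl_bc σ hφ hξ
  have hφ₁ := AbSchX.Bidual.isDualAV_bc σ φ hφ
  haveI : HasInjectiveResolutions (F.obj At ⊗ F.obj A).left.Modules := KFlatLib.hasInjectiveResolutions_modules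
  haveI : HasInjectiveResolutions (At ⊗ A).left.Modules := KFlatLib.hasInjectiveResolutions_modules
  obtain ⟨T, hTf, hTc, hT⟩ := support_swap hφ₁ hP₁ hξ₁
  let π := pullback.fst A.hom σ
  haveI : IsIntegralHom σ := by
    rw [IsIntegralHom.SpecMap_iff, CommRingCat.hom_ofHom, algebraMap_isIntegral_iff]
    infer_instance
  haveI : IsIntegralHom π := inferInstanceAs (IsIntegralHom (pullback.fst A.hom σ))
  haveI : Subsingleton ↥(Spec (CommRingCat.of k)) := inferInstanceAs (Subsingleton (PrimeSpectrum k))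
  haveI : Nonempty ↥(Spec (CommRingCat.of K)) := inferInstanceAs (Nonempty (PrimeSpectrum K))
  haveI : Flat σ := inferInstance
  haveI : Surjective σ := ⟨fun x => ⟨Classical.arbitrary _, Subsingleton.elim _ _⟩⟩
  haveI : Flat π := inferInstanceAs (Flat (pullback.fst A.hom σ))
  haveI : Surjective π := inferInstanceAs (Surjective (pullback.fst A.hom σ))
  haveI : IsLocallyNoetherian A.left := LocallyOfFiniteType.isLocallyNoetherian A.hom
  haveI : CompactSpace A.left := QuasiCompact.compactSpace_of_compactSpace A.hom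
  haveI : AlgebraicGeometry.IsNoetherian A.left := {}
  haveI : IsProper (snd At A).left := inferInstanceAs (IsProper (pullback.snd At.hom A.hom))
  haveI : IsProper (fst A At).left := inferInstanceAs (IsProper (pullback.fst A.hom At.hom))
  haveI : IsLocallyNoetherian (A ⊗ At).left := LocallyOfFiniteType.isLocallyNoetherian (fst A At).left
  refine ⟨π '' T, hTf.image _, ?_, fun p => ?_⟩
  · rintro _ ⟨x, hx, rfl⟩
    rw [← Set.image_singleton]
    exact π.isClosedMap _ (hTc x hx)
  let R := (Coh.Rpush (fst A At).left p).obj P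
  have hR : Coh.IsCoh R := VarBase.isCoh_Rpush (fst A At).left (CurveDeg.isCoh_of_isInvertible hP) p
  have hsq : IsPullback (w' ≫ s.left) (snd (F.obj At) (F.obj A)).left (fst A At).left π := by
    have h₀ : IsPullback s.left (snd At A).left (fst A At).left (𝟙 A.left) := by
      haveI : IsIso s := ⟨lift (snd A At) (fst A At), by ext <;> simp [s], by ext <;> simp [s]⟩
      haveI : IsIso s.left := (inferInstance : IsIso ((Over.forget _).map s))
      exact IsPullback.of_horiz_isIso ⟨by rw [← Over.comp_left, Category.comp_id, show s ≫ fst A At = snd At A from lift_fst _ _]⟩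
    have h₁ : IsPullback w' (snd (F.obj At) (F.obj A)).left (snd At A).left π := isPullback_bcProd_snd σ At A
    simpa using h₁.paste_horiz h₀
  have hw : w' ≫ s.left = s'.left ≫ w := by
    refine pullback.hom_ext ?_ ?_
    · rw [Category.assoc, Category.assoc, swap_left_fst, bcProd_snd, bcProd_fst, ← Category.assoc, swap_left_fst]
    · rw [Category.assoc, Category.assoc, swap_left_snd, bcProd_fst, bcProd_snd, ← Category.assoc, swap_left_snd]
  haveI := ProjUPX.isQCoh_of_isInvertible hP
  obtain ⟨e⟩ := Groth.Agent.S0033.result (fst A At).left π (w' ≫ s.left) (snd (F.obj At) (F.obj A)).left hsq P p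
  let R₁ := (Coh.Rpush (snd (F.obj At) (F.obj A)).left p).obj ((Scheme.Modules.pullback s'.left).obj P₁)
  let v : (Scheme.Modules.pullback π).obj R ≅ R₁ := e ≪≫ (Coh.Rpush (snd (F.obj At) (F.obj A)).left p).mapIso
    ((Scheme.Modules.pullbackCongr hw).app P ≪≫ ((Scheme.Modules.pullbackComp s'.left w).app P).symm)
  haveI : IsLocallyNoetherian (F.obj A).left := LocallyOfFiniteType.isLocallyNoetherian (F.obj A).hom
  haveI : CompactSpace (F.obj A).left := QuasiCompact.compactSpace_of_compactSpace (F.obj A).hom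
  haveI : AlgebraicGeometry.IsNoetherian (F.obj A).left := {}
  haveI : IsProper (snd (F.obj At) (F.obj A)).left :=
    inferInstanceAs (IsProper (pullback.snd (F.obj At).hom (F.obj A).hom))
  haveI : IsLocallyNoetherian (F.obj At ⊗ F.obj A).left :=
    LocallyOfFiniteType.isLocallyNoetherian (snd (F.obj At) (F.obj A)).left
  have hR₁ : Coh.IsQCoh R₁ := (VarBase.isCoh_Rpush (snd (F.obj At) (F.obj A)).left
    (CurveDeg.isCoh_of_isInvertible (PicClLib.isInvertible_pullback s'.left hP₁)) p).1
  have hπR : CohB1.support ((Scheme.Modules.pullback π).obj R) = π ⁻¹' CohB1.support R :=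
    QCoh.support_pullback π hR.1 hR.2
  have hsupp : π ⁻¹' CohB1.support R = CohB1.support R₁ := by
    rw [← hπR]
    exact Set.Subset.antisymm (fun x hx => QCoh.mem_support_of_mono (QCoh.isQCoh_pullback π hR.1) hR₁ v.hom hx)
      (fun x hx => QCoh.mem_support_of_mono hR₁ (QCoh.isQCoh_pullback π hR.1) v.inv hx)
  obtain ⟨hsub, hne⟩ := hT p
  refine ⟨fun y hy => ?_, fun ⟨y, hy⟩ => ?_⟩
  · obtain ⟨y', rfl⟩ := π.surjective y
    exact ⟨y', hsub (hsupp.subset hy), rfl⟩
  · obtain ⟨y', rfl⟩ := π.surjective y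
    have h := hsupp.symm.subset (hne ⟨y', hsupp.subset hy⟩)
    have h1 : η[F.obj A].left ≫ π = σ ≫ η[A].left := AbSchX.Bidual.one_left_fst σ A
    rw [Set.mem_preimage] at h
    have h2 : π (η[F.obj A].left (IsLocalRing.closedPoint K)) = η[A].left (IsLocalRing.closedPoint k) := by
      refine (congr(($h1) (IsLocalRing.closedPoint K))).trans ?_
      show η[A].left (σ (IsLocalRing.closedPoint K)) = η[A].left (IsLocalRing.closedPoint k)
      exact congrArg (fun t => η[A].left t) (@Subsingleton.elim _ (inferInstanceAs (Subsingleton (PrimeSpectrum k))) _ _)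
    rw [← h2]
    exact h

variable {g : ℕ} (hg : topologicalKrullDim A.left = g)
include hg

/-- The higher direct images of a Poincaré bundle along the first projection. -/
theorem rpush_fst_poincare :
    (∀ p : ℕ, p ≠ g → IsZero ((Coh.Rpush (fst A At).left p).obj P)) ∧
      Nonempty ((Coh.Rpush (fst A At).left g).obj P ≅
        (Coh.push η[A].left).obj (Coh.structureModule (Spec (CommRingCat.of k)))) := by
  obtain ⟨T, hTf, hTc, hT⟩ := support_fst hφ hP hξ
  obtain ⟨hχ, -, -⟩ := poincare_any_field hφ hP hξ hg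
  obtain ⟨hHH, -, -, -⟩ := cohomology_poincare hφ hP hξ hg
  letI : (A ⊗ At).left.Over (Spec (CommRingCat.of k)) := ⟨pullback.fst A.hom At.hom ≫ A.hom⟩
  letI : A.left.Over (Spec (CommRingCat.of k)) := ⟨A.hom⟩
  haveI : IsProper ((A ⊗ At).left ↘ Spec (CommRingCat.of k)) :=
    inferInstanceAs (IsProper (pullback.fst A.hom At.hom ≫ A.hom))
  haveI : IsProper (A.left ↘ Spec (CommRingCat.of k)) := ‹IsProper A.hom›
  haveI : AlgebraicGeometry.IsNoetherian A.left := CurveCohLib.isNoetherian_of_proper (k := k) (X := A.left)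
  haveI : AlgebraicGeometry.IsNoetherian (A ⊗ At).left :=
    CurveCohLib.isNoetherian_of_proper (k := k) (X := (A ⊗ At).left)
  let f := (fst A At).left
  haveI : IsProper f := inferInstanceAs (IsProper (pullback.fst A.hom At.hom))
  have hPc := CurveDeg.isCoh_of_isInvertible hP
  have hfin : ∀ q j : ℕ, Subsingleton (Coh.HH A.left ((Coh.Rpush f q).obj P) (j + 1)) := fun q j =>
    CurveVanish.subsingleton_HH_of_finite hTf hTc (fun x hx => not_not.1 fun h => hx ((hT q).1 h)) j
  have hzero : ∀ p : ℕ, p ≠ g → IsZero ((Coh.Rpush f p).obj P) := fun p hp => by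
    by_contra hne
    have hpos := euler_pos_of_finite_support (k := k) (VarBase.isCoh_Rpush f hPc p) hTf hTc (hT p).1 hne
    rw [euler_eq_h0_of_finite_support hTf hTc (hT p).1] at hpos
    haveI : Subsingleton (Coh.HH A.left ((Coh.Rpush f p).obj P) 0) := by
      cases p with
      | zero =>
        refine (AVIdx.subsingleton_HH_R0_iff f P 0).2 (AVIdx.subsingleton_HH_zero_of_sections ?_)
        exact AVIdx.subsingleton_sections_of_HH (X := (A ⊗ At).left) (M := P) (hHH 0 hp)
      | succ n =>
        exact AVIdx.subsingleton_HH_zero_of_sections (AVPhi.subsingleton_sections_Rpush f n P hfin (hHH (n + 1) hp))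
    exact (Nat.cast_pos.1 hpos).ne' (by exact Module.finrank_zero_of_subsingleton)
  refine ⟨hzero, ?_⟩
  have hχg : Curv2.euler k A.left ((Coh.Rpush f g).obj P) = 1 := by
    refine mul_left_cancel₀ (pow_ne_zero g (by norm_num : (-1 : ℤ) ≠ 0)) ?_
    rw [_root_.mul_one]
    refine Eq.trans ?_ hχ
    show _ = Curv2.euler k (A ⊗ At).left P
    rw [VarBase.euler_eq_rpushSum k f rfl hPc, VarBase.rpushSum, finsum_eq_single _ g fun i hi => by
      rw [VarBase.additive_zero (HilbPoly.additive_euler k) (hzero i hi) (VarBase.isCoh_Rpush f hPc i), mul_zero]]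
  refine nonempty_iso_skyscraper_of_mem (k := k) η[A].left (Over.w η[A]) (VarBase.isCoh_Rpush f hPc g) hTf hTc
    (hT g).1 ((hT g).2 ?_) hχg
  by_contra hempty
  have hz := AVIdx.isZero_of_support_empty (VarBase.isCoh_Rpush f hPc g).1 (Set.not_nonempty_iff_eq_empty.1 hempty)
  rw [VarBase.additive_zero (HilbPoly.additive_euler k) hz (VarBase.isCoh_Rpush f hPc g)] at hχg
  exact zero_ne_one hχg

end Groth.Agent.AVPoinc
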