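import Groth.Agent.AVPoinc.Fibrewise
import Groth.Agent.CExt24.GMapMod

/-!
Infinitesimal families of trivial Poincare slices are constant.
-/

set_option linter.style.haveILetI false
set_option linter.unusedSectionVars false
set_option backward.isDefEq.respectTransparency false
set_option backward.isDefEq.respectTransparency.types false
set_option autoImplicit false

universe u

open CategoryTheory CategoryTheory.Limits MonoidalCategory CartesianMonoidalCategory MonObj AlgebraicGeometry
open TopologicalSpace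

namespace Groth.Agent.AVPoinc

open Groth.Agent.H23 Groth.Agent.H23.TrivBasic Groth.Agent.AVPair Groth.Agent.AVAmple Groth.Agent.InvX
open scoped Groth.Agent.H23.PicMul

variable {k : Type u} [Field k] {A T : Over (Spec (CommRingCat.of k))}

/-- The slice through a rational point of a base. -/
theorem isPullback_slice (b : 𝟙_ (Over (Spec (CommRingCat.of k))) ⟶ T) :
    IsPullback (lift (𝟙 A) (toUnit A ≫ b)).left A.hom (snd A T).left b.left := by
  refine IsPullback.of_right (t := IsPullback.of_hasPullback A.hom T.hom) ?_ ?_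
  · have e1 : (lift (𝟙 A) (toUnit A ≫ b)).left ≫ pullback.fst A.hom T.hom = 𝟙 _ := by
      show (lift (𝟙 A) (toUnit A ≫ b)).left ≫ (fst A T).left = _
      rw [← Over.comp_left, lift_fst, Over.id_left]
    have e2 : b.left ≫ T.hom = 𝟙 (Spec (CommRingCat.of k)) := Over.w b
    rw [e1, e2]
    exact IsPullback.of_horiz_isIso ⟨by simp⟩
  · show (lift (𝟙 A) (toUnit A ≫ b)).left ≫ (snd A T).left = _
    rw [← Over.comp_left, lift_snd]
    rfl

variable [IsAlgClosed k] {At : Over (Spec (CommRingCat.of k))} [GrpObj A] [IsProper A.hom] [GeometricallyIntegral A.hom]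
  [GrpObj At] [IsProper At.hom] [GeometricallyIntegral At.hom]
  {φ : ∀ T : Over (Spec (CommRingCat.of k)), PicF.Cl (PicF.XT A.hom T) → (T ⟶ At)}
  (hφ : AbDual.IsDualAV Scheme.fppfPrecoverage A At φ) {P : (A ⊗ At).left.Modules} (hP : PicF.IsInvertible P)
  (hξ : AbDual.IsPoincareCl A At φ (PicF.cl P))
include hφ hξ hP

/-- If all sections of the fibre at a surjective point lift, the family is constant. -/
theorem eq_one_of_surjective_pullMod (b : 𝟙_ (Over (Spec (CommRingCat.of k))) ⟶ T) [Surjective b.left]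
    (v : T ⟶ At) (hv : b ≫ v = 1)
    (hs : Function.Surjective (CohPull.pullMod (lift (𝟙 A) (toUnit A ≫ b)).left
      ((Scheme.Modules.pullback (A ◁ v).left).obj P) 0)) : v = 1 := by
  let sl := (lift (𝟙 A) (toUnit A ≫ b)).left
  let N := (Scheme.Modules.pullback (A ◁ v).left).obj P
  have hN : PicF.IsInvertible N := PicClLib.isInvertible_pullback _ hP
  have e : lift (𝟙 A) (toUnit A ≫ b) ≫ A ◁ v = AVPhi.slice A At 1 := by
    rw [lift_whiskerLeft, Category.assoc, hv]
  have htriv : Triv ((Scheme.Modules.pullback sl).obj N) := by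
    refine (triv_comp_iff sl (A ◁ v).left).2 ?_
    rw [triv_congr (show sl ≫ (A ◁ v).left = (AVPhi.slice A At 1).left by rw [← e]; rfl)]
    exact triv_slice_one hφ hξ
  obtain ⟨t, ht⟩ := htriv.exists_frame
  let eT := Sheaf.H.equiv₀ (Coh.toAb ((Scheme.Modules.pullback sl).obj N)) isTerminalTop
  obtain ⟨x, hx⟩ := hs (eT.symm t)
  let s : Γ(N, ⊤) := Sheaf.H.equiv₀ (Coh.toAb N) isTerminalTop x
  have hst : (pullElt sl (U := ⊤) s : Γ((Scheme.Modules.pullback sl).obj N, sl ⁻¹ᵁ ⊤)) = t := by
    have h1 := congrArg eT hx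
    rw [AddEquiv.apply_symm_apply, CExt24.pullMod_eq_pm] at h1
    exact (CExt24.equiv₀_pmMod sl ((Scheme.Modules.pullbackPushforwardAdjunction sl).unit.app N) x).symm.trans h1
  haveI : Surjective sl :=
    MorphismProperty.of_isPullback (P := @Surjective) (isPullback_slice (A := A) b).flip inferInstance
  have hfr : IsFrame s := by
    refine locus_eq_top_iff.1 (top_le_iff.1 fun z _ => ?_)
    obtain ⟨w, rfl⟩ := sl.surjective z
    have h2 := locus_eq_top_iff.2 ht
    rw [← hst] at h2
    have h3 : locus (show Γ((Scheme.Modules.pullback sl).obj N, ⊤) from pullElt sl s) = sl ⁻¹ᵁ locus s :=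
      locus_pullElt hN sl s
    exact (h3.symm.trans h2).ge (show w ∈ (⊤ : Opens _) from trivial)
  have h1 : pl (A ◁ v) (PicF.cl P) = 1 := (CubeAb.cl_eq_one_iff _).2 (triv_of_frame hfr)
  have h2 := AVDual.phi_pl hφ v (show AVDual.PZ A At (PicF.cl P) from hξ.1)
  rw [h1, AVDual.phi_one hφ, hξ.2.1, Category.comp_id] at h2
  exact h2.symm

end Groth.Agent.AVPoinc
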