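import Groth.Agent.AVPoinc.FreeComplex
import Groth.Agent.CExt24.ModelAlgLoc
import Groth.Agent.QCoh.Corep

/-!
Truncation of a finite free model over a local ring to the degrees where its fibre has cohomology.
-/

set_option autoImplicit false
set_option linter.style.haveILetI false
set_option linter.unusedSectionVars false
set_option backward.isDefEq.respectTransparency false
set_option backward.isDefEq.respectTransparency.types false
set_option maxHeartbeats 800000

universe u

open CategoryTheory CategoryTheory.Limits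
open scoped TensorProduct

noncomputable section

namespace Groth.Agent.AVPoinc

open FlatCxLib (Coker Cyc Hom')

variable {R : Type u} [CommRing R] (P : ChainComplex (ModuleCat.{u} R) ℤ) (g : ℕ)

/-- The kept part in degree `i`. -/
def truncSub (i : ℤ) : Submodule R (P.X i) :=
  if i < -(g : ℤ) then ⊥ else if i = -(g : ℤ) then LinearMap.ker (P.d i (i - 1)).hom else ⊤

/-- The discarded part in degree `i`. -/
def truncRel (i : ℤ) : Submodule R (P.X i) :=
  if 0 < i then ⊤ else if i = 0 then LinearMap.range (P.d (i + 1) i).hom else ⊥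

theorem truncSub_le {i j : ℤ} (h : j + 1 = i) :
    ∀ x ∈ truncSub P g i, (P.d i j).hom x ∈ truncSub P g j := by
  intro x hx
  obtain rfl : j = i - 1 := by lia
  simp only [truncSub] at hx ⊢
  split_ifs with h1 h2
  · -- below the bottom
    rcases lt_or_eq_of_le (show i ≤ -(g : ℤ) by lia) with hi | hi
    · rw [if_pos hi, Submodule.mem_bot] at hx
      rw [hx, map_zero]
      exact zero_mem _
    · rw [if_neg (by lia), if_pos hi] at hx
      exact (Submodule.mem_bot R).2 hx
  · rw [LinearMap.mem_ker, ← ModuleCat.comp_apply, P.d_comp_d]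
    rfl
  · trivial

theorem truncRel_le {i j : ℤ} (h : j + 1 = i) :
    ∀ x ∈ truncRel P i, (P.d i j).hom x ∈ truncRel P j := by
  intro x hx
  subst h
  simp only [truncRel] at hx ⊢
  split_ifs with h1 h2
  · trivial
  · exact ⟨x, rfl⟩
  · rcases lt_or_eq_of_le (show j + 1 ≤ 0 by lia) with hi | hi
    · rw [if_neg (by lia), if_neg hi.ne, Submodule.mem_bot] at hx
      rw [hx, map_zero]
      exact zero_mem _
    · rw [if_neg (by lia), if_pos hi] at hx
      obtain ⟨w, rfl⟩ := hx
      rw [← ModuleCat.comp_apply, P.d_comp_d]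
      exact zero_mem _

/-- The truncated object. -/
abbrev TruncX (i : ℤ) : Type u :=
  truncSub P g i ⧸ (truncRel P i).comap (truncSub P g i).subtype

/-- The truncated differential. -/
def truncD (j : ℤ) : TruncX P g (j + 1) →ₗ[R] TruncX P g j :=
  ((truncRel P (j + 1)).comap (truncSub P g (j + 1)).subtype).mapQ _
    ((P.d (j + 1) j).hom.restrict (truncSub_le P g rfl)) fun x hx => truncRel_le P rfl _ hx

/-- The truncated complex. -/
def truncCx : ChainComplex (ModuleCat.{u} R) ℤ :=
  ChainComplex.of (fun i => ModuleCat.of R (TruncX P g i)) (fun j => ModuleCat.ofHom (truncD P g j)) fun j => by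
    refine ModuleCat.hom_ext (Submodule.linearMap_qext _ (LinearMap.ext fun x => ?_))
    show truncD P g j (truncD P g (j + 1) (Submodule.Quotient.mk x)) = 0
    refine (Submodule.Quotient.mk_eq_zero _).2 ?_
    show (P.d (j + 1) j).hom ((P.d (j + 1 + 1) (j + 1)).hom x) ∈ truncRel P j
    rw [← ModuleCat.comp_apply, P.d_comp_d]
    exact zero_mem _

theorem truncCx_d_mk {i j : ℤ} (h : j + 1 = i) (x : truncSub P g i) :
    ((truncCx P g).d i j).hom (Submodule.Quotient.mk x) =
      Submodule.Quotient.mk (⟨(P.d i j).hom x, truncSub_le P g h _ x.2⟩ : truncSub P g j) := by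
  subst h
  rw [show (truncCx P g).d (j + 1) j = ModuleCat.ofHom (truncD P g j) by simp [truncCx]]
  rfl

theorem isZero_truncCx_low {i : ℤ} (h : i < -(g : ℤ)) : IsZero ((truncCx P g).X i) := by
  haveI : Subsingleton (truncSub P g i) := by rw [truncSub, if_pos h]; infer_instance
  exact ModuleCat.isZero_of_subsingleton (ModuleCat.of R (TruncX P g i))

theorem isZero_truncCx_high {i : ℤ} (h : 0 < i) : IsZero ((truncCx P g).X i) := by
  haveI : Subsingleton (TruncX P g i) := by
    rw [Submodule.Quotient.subsingleton_iff, truncRel, if_pos h, Submodule.comap_top]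
  exact ModuleCat.isZero_of_subsingleton (ModuleCat.of R (TruncX P g i))

theorem finite_truncX [IsNoetherianRing R] [∀ i, Module.Finite R (P.X i)] (i : ℤ) :
    Module.Finite R (TruncX P g i) := by
  haveI : IsNoetherian R (P.X i) := isNoetherian_of_isNoetherianRing_of_finite R _
  infer_instance

/-- A quotient of nested summands is projective. -/
theorem projective_sub_quot {M : Type u} [AddCommGroup M] [Module R M] {N S : Submodule R M} (hNS : N ≤ S)
    [Module.Projective R (M ⧸ S)] [Module.Projective R (M ⧸ N)] :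
    Module.Projective R (S ⧸ N.comap S.subtype) := by
  let f : (S ⧸ N.comap S.subtype) →ₗ[R] M ⧸ N := (N.comap S.subtype).mapQ N S.subtype le_rfl
  let p : (M ⧸ N) →ₗ[R] M ⧸ S := Submodule.factor hNS
  have hf : Function.Injective f := (injective_iff_map_eq_zero _).2 fun z hz => by
    obtain ⟨x, rfl⟩ := Submodule.Quotient.mk_surjective _ z
    exact (Submodule.Quotient.mk_eq_zero _).2 ((Submodule.Quotient.mk_eq_zero N).1 hz)
  have hex : Function.Exact f p := fun y => by
    obtain ⟨y, rfl⟩ := Submodule.Quotient.mk_surjective _ y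
    constructor
    · intro hy
      exact ⟨Submodule.Quotient.mk ⟨y, (Submodule.Quotient.mk_eq_zero S).1 hy⟩, rfl⟩
    · rintro ⟨z, hz⟩
      obtain ⟨x, rfl⟩ := Submodule.Quotient.mk_surjective _ z
      rw [← hz]
      exact (Submodule.Quotient.mk_eq_zero S).2 x.2
  obtain ⟨σ, hσ⟩ := Module.projective_lifting_property p LinearMap.id (Submodule.factor_surjective hNS)
  obtain ⟨e, -, -⟩ := Function.Exact.splitSurjectiveEquiv hex hf ⟨σ, hσ⟩
  haveI : Module.Projective R ((S ⧸ N.comap S.subtype) × (M ⧸ S)) := Module.Projective.of_equiv e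
  exact Module.Projective.of_split (LinearMap.inl R _ (M ⧸ S)) (LinearMap.fst R _ _) (LinearMap.ext fun _ => rfl)

variable [∀ i, Module.Free R (P.X i)]

/-- The quotient by the image in degree `-g` is projective when the next cokernel is. -/
theorem projective_quot_ker {i j : ℤ} [Module.Projective R (Coker P i j)] :
    Module.Projective R (P.X i ⧸ LinearMap.ker (P.d i j).hom) := by
  obtain ⟨σ, hσ⟩ := Module.projective_lifting_property (LinearMap.range (P.d i j).hom).mkQ LinearMap.id
    (Submodule.mkQ_surjective _)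
  haveI : Module.Projective R (LinearMap.range (P.d i j).hom) := by
    refine Module.Projective.of_split (LinearMap.range (P.d i j).hom).subtype
      (LinearMap.codRestrict _ (LinearMap.id - σ ∘ₗ (LinearMap.range (P.d i j).hom).mkQ) fun v => ?_)
      (LinearMap.ext fun v => Subtype.ext ?_)
    · refine (Submodule.Quotient.mk_eq_zero (LinearMap.range (P.d i j).hom)).1 ?_
      show (LinearMap.range (P.d i j).hom).mkQ (v - σ ((LinearMap.range (P.d i j).hom).mkQ v)) = 0
      rw [map_sub, ← LinearMap.comp_apply (LinearMap.range _).mkQ σ, hσ, LinearMap.id_apply, sub_self]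
    · show (v : P.X j) - σ ((LinearMap.range (P.d i j).hom).mkQ v) = v
      rw [show (LinearMap.range (P.d i j).hom).mkQ (v : P.X j) = 0 from (Submodule.Quotient.mk_eq_zero _).2 v.2,
        map_zero, sub_zero]
  exact Module.Projective.of_equiv (P.d i j).hom.quotKerEquivRange.symm

theorem projective_quot_truncSub [Module.Projective R (Coker P (-(g : ℤ)) (-(g : ℤ) - 1))] {i : ℤ}
    (hlo : -(g : ℤ) ≤ i) : Module.Projective R (P.X i ⧸ truncSub P g i) := by
  rcases eq_or_lt_of_le hlo with h | h
  · subst h
    have e : truncSub P g (-(g : ℤ)) = LinearMap.ker (P.d (-(g : ℤ)) (-(g : ℤ) - 1)).hom := by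
      simp [truncSub]
    haveI := projective_quot_ker P (i := -(g : ℤ)) (j := -(g : ℤ) - 1)
    exact Module.Projective.of_equiv (Submodule.quotEquivOfEq _ _ e).symm
  · have e : truncSub P g i = ⊤ := by rw [truncSub, if_neg (not_lt.2 hlo), if_neg h.ne']
    haveI : Subsingleton (P.X i ⧸ truncSub P g i) := Submodule.Quotient.subsingleton_iff.2 e
    exact Module.Projective.of_free

theorem projective_quot_truncRel [Module.Projective R (Coker P 1 0)] {i : ℤ} (hhi : i ≤ 0) :
    Module.Projective R (P.X i ⧸ truncRel P i) := by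
  rcases eq_or_lt_of_le hhi with h | h
  · subst h
    have e : truncRel P 0 = LinearMap.range (P.d 1 0).hom := by simp [truncRel]
    exact Module.Projective.of_equiv (Submodule.quotEquivOfEq _ _ e).symm
  · have e : truncRel P i = ⊥ := by rw [truncRel, if_neg (by lia), if_neg h.ne]
    exact Module.Projective.of_equiv (Submodule.quotEquivOfEqBot _ e).symm

theorem projective_truncX [Module.Projective R (Coker P 1 0)]
    [Module.Projective R (Coker P (-(g : ℤ)) (-(g : ℤ) - 1))] (i : ℤ) :
    Module.Projective R (TruncX P g i) := by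
  by_cases hlo : i < -(g : ℤ)
  · haveI : Subsingleton (truncSub P g i) := by rw [truncSub, if_pos hlo]; infer_instance
    exact Module.Projective.of_free
  by_cases hhi : 0 < i
  · haveI : Subsingleton (TruncX P g i) := by
      rw [Submodule.Quotient.subsingleton_iff, truncRel, if_pos hhi, Submodule.comap_top]
    exact Module.Projective.of_free
  have hle : truncRel P i ≤ truncSub P g i := by
    rcases eq_or_lt_of_le (not_lt.1 hhi) with h | h
    · subst h
      rcases eq_or_lt_of_le (not_lt.1 hlo) with h | h
      · rintro x hx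
        rw [truncRel, if_neg (lt_irrefl _), if_pos rfl] at hx
        rw [truncSub, if_neg hlo, if_pos h.symm, LinearMap.mem_ker]
        obtain ⟨w, rfl⟩ := hx
        rw [← ModuleCat.comp_apply, P.d_comp_d]
        rfl
      · rw [show truncSub P g 0 = ⊤ by rw [truncSub, if_neg hlo, if_neg h.ne']]
        exact le_top
    · rw [show truncRel P i = ⊥ by rw [truncRel, if_neg hhi, if_neg h.ne]]
      exact bot_le
  haveI := projective_quot_truncSub P g (not_lt.1 hlo)
  haveI := projective_quot_truncRel P (not_lt.1 hhi)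
  exact projective_sub_quot hle

theorem truncSub_eq_top {i : ℤ} (h : -(g : ℤ) < i) : truncSub P g i = ⊤ := by
  rw [truncSub, if_neg (by lia), if_neg h.ne']

theorem truncRel_eq_bot {i : ℤ} (h : i < 0) : truncRel P i = ⊥ := by
  rw [truncRel, if_neg (by lia), if_neg h.ne]

/-- Torsion in the homology of the complex bounds that of the truncation. -/
theorem truncCx_killed (b : R)
    (hb : ∀ q : ℤ, -(g : ℤ) ≤ q → q ≤ 0 → ∀ x : P.X q, (P.d q (q - 1)).hom x = 0 →
      b • x ∈ LinearMap.range (P.d (q + 1) q).hom)
    (q : ℤ) (z : (truncCx P g).X q) (hz : (truncCx P g).d q (q - 1) z = 0) :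
    ∃ w : (truncCx P g).X (q + 1), (truncCx P g).d (q + 1) q w = b • z := by
  by_cases hlo : q < -(g : ℤ)
  · haveI := ModuleCat.subsingleton_of_isZero (isZero_truncCx_low P g hlo)
    exact ⟨0, Subsingleton.elim _ _⟩
  by_cases hhi : 0 < q
  · haveI := ModuleCat.subsingleton_of_isZero (isZero_truncCx_high P g hhi)
    exact ⟨0, Subsingleton.elim _ _⟩
  change TruncX P g q at z
  obtain ⟨⟨x, hxS⟩, rfl⟩ := Submodule.Quotient.mk_surjective _ z
  have hdx : (P.d q (q - 1)).hom x = 0 := by
    have h1 : (P.d q (q - 1)).hom x ∈ truncRel P (q - 1) :=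
      (Submodule.Quotient.mk_eq_zero ((truncRel P (q - 1)).comap (truncSub P g (q - 1)).subtype)).1
        ((truncCx_d_mk P g (show q - 1 + 1 = q by lia) ⟨x, hxS⟩).symm.trans hz)
    rwa [truncRel_eq_bot P (by lia), Submodule.mem_bot] at h1
  obtain ⟨w, hw⟩ := hb q (by lia) (by lia) x hdx
  refine ⟨Submodule.Quotient.mk (⟨w, by rw [truncSub_eq_top P g (by lia)]; trivial⟩ : truncSub P g (q + 1)), ?_⟩
  refine (truncCx_d_mk P g rfl _).trans ?_
  exact congrArg Submodule.Quotient.mk (Subtype.ext hw)

variable [Module.Projective R (Coker P 1 0)] [Module.Projective R (Coker P (-(g : ℤ)) (-(g : ℤ) - 1))]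

/-- The dual cokernel of the truncation is the corepresenting module of `T_0`. -/
theorem nonempty_corepQ_equiv :
    Nonempty (QCoh.corepQ P 1 0 (-1) ≃ₗ[R]
      Module.Dual R (TruncX P g 0) ⧸ LinearMap.range ((truncCx P g).d 0 (-1)).hom.dualMap) := by
  let v := FlatCxLib.cokerDesc P 1 0 (-1)
  let β : TruncX P g 0 →ₗ[R] Coker P 1 0 :=
    ((truncRel P 0).comap (truncSub P g 0).subtype).mapQ _ (truncSub P g 0).subtype (by
      intro x hx
      have h := (show (x : P.X 0) ∈ truncRel P 0 from hx)
      rwa [truncRel, if_neg (lt_irrefl _), if_pos rfl] at h)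
  have hβ : Function.Injective β := (injective_iff_map_eq_zero _).2 fun z hz => by
    obtain ⟨x, rfl⟩ := Submodule.Quotient.mk_surjective _ z
    refine (Submodule.Quotient.mk_eq_zero _).2 ?_
    show (x : P.X 0) ∈ truncRel P 0
    rw [truncRel, if_neg (lt_irrefl _), if_pos rfl]
    exact (Submodule.Quotient.mk_eq_zero _).1 hz
  have h0 : g = 0 → Module.Projective R (Coker P 0 (-1)) := fun h => by
    subst h
    exact ‹Module.Projective R (Coker P (-((0 : ℕ) : ℤ)) (-((0 : ℕ) : ℤ) - 1))›
  let β' : TruncX P g (-1) →ₗ[R] P.X (-1) :=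
    ((truncRel P (-1)).comap (truncSub P g (-1)).subtype).liftQ (truncSub P g (-1)).subtype (by
      intro x hx
      have h := (show (x : P.X (-1)) ∈ truncRel P (-1) from hx)
      rw [truncRel_eq_bot P (by lia), Submodule.mem_bot] at h
      exact LinearMap.mem_ker.2 h)
  have hcomm : ∀ z : TruncX P g 0, v (β z) = β' (((truncCx P g).d 0 (-1)).hom z) := fun z => by
    obtain ⟨x, rfl⟩ := Submodule.Quotient.mk_surjective _ z
    rw [show ((truncCx P g).d 0 (-1)).hom (Submodule.Quotient.mk x) = _ from truncCx_d_mk P g (by lia) x]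
    rfl
  -- functionals on the image of `β` extend
  have hext : ∀ φ : Module.Dual R (TruncX P g 0), ∃ ψ : Module.Dual R (Coker P 1 0), ψ ∘ₗ β = φ := by
    intro φ
    rcases Nat.eq_zero_or_pos g with hg | hg
    · haveI := h0 hg
      subst hg
      haveI : Module.Projective R (Coker P 1 0 ⧸ LinearMap.range β) := by
        haveI : Module.Projective R (P.X 0 ⧸ LinearMap.ker (P.d 0 (-1)).hom) := projective_quot_ker P
        have hr : LinearMap.range β = LinearMap.ker v := by
          refine Submodule.ext fun y => ?_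
          obtain ⟨y, rfl⟩ := Submodule.Quotient.mk_surjective _ y
          constructor
          · rintro ⟨z, hz⟩
            obtain ⟨x, rfl⟩ := Submodule.Quotient.mk_surjective _ z
            rw [← hz]
            have hx := x.2
            simp only [truncSub, Nat.cast_zero, neg_zero, lt_irrefl, if_false, if_true] at hx
            exact hx
          · intro hy
            refine ⟨Submodule.Quotient.mk ⟨y, ?_⟩, rfl⟩
            rw [truncSub, if_neg (by lia), if_pos (by simp)]
            exact hy
        exact Module.Projective.of_equiv ((P.d 0 (-1)).hom.quotKerEquivRange.trans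
          ((LinearEquiv.ofEq _ _ (FlatCxLib.range_cokerDesc P 1 0 (-1))).symm.trans
            (v.quotKerEquivRange.symm.trans (Submodule.quotEquivOfEq _ _ hr.symm))))
      obtain ⟨σ, hσ⟩ := Module.projective_lifting_property (LinearMap.range β).mkQ LinearMap.id
        (Submodule.mkQ_surjective _)
      let π : Coker P 1 0 →ₗ[R] LinearMap.range β :=
        LinearMap.codRestrict _ (LinearMap.id - σ ∘ₗ (LinearMap.range β).mkQ) fun c => by
          refine (Submodule.Quotient.mk_eq_zero (LinearMap.range β)).1 ?_
          show (LinearMap.range β).mkQ (c - σ ((LinearMap.range β).mkQ c)) = 0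
          rw [map_sub, ← LinearMap.comp_apply (LinearMap.range β).mkQ σ, hσ, LinearMap.id_apply, sub_self]
      refine ⟨φ ∘ₗ (LinearEquiv.ofInjective β hβ).symm.toLinearMap ∘ₗ π, LinearMap.ext fun z => ?_⟩
      refine congrArg φ ((LinearEquiv.symm_apply_eq _).2 (Subtype.ext ?_))
      show β z - σ ((LinearMap.range β).mkQ (β z)) = β z
      rw [show (LinearMap.range β).mkQ (β z) = 0 from (Submodule.Quotient.mk_eq_zero _).2 ⟨z, rfl⟩, map_zero, sub_zero]
    · have hs : Function.Surjective β := fun y => by
        obtain ⟨y, rfl⟩ := Submodule.Quotient.mk_surjective _ y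
        exact ⟨Submodule.Quotient.mk ⟨y, by rw [truncSub_eq_top P g (by lia)]; trivial⟩, rfl⟩
      refine ⟨φ ∘ₗ (LinearEquiv.ofBijective β ⟨hβ, hs⟩).symm.toLinearMap, LinearMap.ext fun z => ?_⟩
      exact congrArg φ ((LinearEquiv.ofBijective β ⟨hβ, hs⟩).symm_apply_apply z)
  let T := LinearMap.range ((truncCx P g).d 0 (-1)).hom.dualMap
  let f : QCoh.corepQ P 1 0 (-1) →ₗ[R] Module.Dual R (TruncX P g 0) ⧸ T :=
    (LinearMap.range v.dualMap).mapQ T β.dualMap (by
      rintro _ ⟨ψ, rfl⟩
      exact ⟨ψ ∘ₗ β', LinearMap.ext fun z => congrArg ψ (hcomm z).symm⟩)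
  refine ⟨LinearEquiv.ofBijective f ⟨(injective_iff_map_eq_zero _).2 fun y hy => ?_, fun y => ?_⟩⟩
  · obtain ⟨ψ, rfl⟩ := Submodule.Quotient.mk_surjective _ y
    obtain ⟨χ, hχ⟩ := (Submodule.Quotient.mk_eq_zero T).1 hy
    change χ ∘ₗ ((truncCx P g).d 0 (-1)).hom = ψ ∘ₗ β at hχ
    refine (Submodule.Quotient.mk_eq_zero _).2 ?_
    rcases Nat.eq_zero_or_pos g with hg | hg
    · -- `ψ` kills the kernel of `v`, whose range is a summand
      subst hg
      haveI := h0 rfl
      haveI : Subsingleton (TruncX P 0 (-1)) := by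
        haveI : Subsingleton (truncSub P 0 (-1)) := by rw [truncSub, if_pos (by simp)]; infer_instance
        infer_instance
      have hψ : ∀ c, v c = 0 → ψ c = 0 := fun c hc => by
        obtain ⟨c, rfl⟩ := Submodule.Quotient.mk_surjective _ c
        have hc' : c ∈ truncSub P 0 0 := by
          rw [truncSub, if_neg (by lia), if_pos (by simp)]
          exact hc
        have h2 : χ (((truncCx P 0).d 0 (-1)).hom (Submodule.Quotient.mk ⟨c, hc'⟩)) = ψ (Submodule.Quotient.mk c) :=
          LinearMap.congr_fun hχ _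
        rw [← h2, show ((truncCx P 0).d 0 (-1)).hom (Submodule.Quotient.mk ⟨c, hc'⟩) = (0 : TruncX P 0 (-1)) from
          @Subsingleton.elim (TruncX P 0 (-1)) _ _ _]
        exact map_zero χ
      let I := LinearMap.range v
      haveI : Module.Projective R (P.X (-1) ⧸ I) :=
        Module.Projective.of_equiv (Submodule.quotEquivOfEq _ _ (FlatCxLib.range_cokerDesc P 1 0 (-1)).symm)
      obtain ⟨σ, hσ⟩ := Module.projective_lifting_property I.mkQ LinearMap.id (Submodule.mkQ_surjective _)
      let π : P.X (-1) →ₗ[R] I := LinearMap.codRestrict I (LinearMap.id - σ ∘ₗ I.mkQ) fun c => by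
        refine (Submodule.Quotient.mk_eq_zero I).1 ?_
        show I.mkQ (c - σ (I.mkQ c)) = 0
        rw [map_sub, ← LinearMap.comp_apply I.mkQ σ, hσ, LinearMap.id_apply, sub_self]
      let ψ' : I →ₗ[R] R := (LinearMap.ker v).liftQ ψ (fun c hc => hψ c hc) ∘ₗ v.quotKerEquivRange.symm.toLinearMap
      refine ⟨ψ' ∘ₗ π, LinearMap.ext fun c => ?_⟩
      show ψ' (π (v c)) = ψ c
      have e : π (v c) = v.quotKerEquivRange (Submodule.Quotient.mk c) := Subtype.ext (by
        show v c - σ (I.mkQ (v c)) = v c
        rw [show I.mkQ (v c) = 0 from (Submodule.Quotient.mk_eq_zero _).2 ⟨c, rfl⟩, map_zero, sub_zero])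
      rw [e]
      show (LinearMap.ker v).liftQ ψ (fun c hc => hψ c hc) (v.quotKerEquivRange.symm (v.quotKerEquivRange _)) = _
      rw [LinearEquiv.symm_apply_apply]
      rfl
    · -- `χ` extends
      have hs : Function.Surjective β := fun y => by
        obtain ⟨y, rfl⟩ := Submodule.Quotient.mk_surjective _ y
        exact ⟨Submodule.Quotient.mk ⟨y, by rw [truncSub_eq_top P g (by lia)]; trivial⟩, rfl⟩
      obtain ⟨χ', hχ'⟩ : ∃ χ' : Module.Dual R (P.X (-1)),
          ∀ c, χ' (v c) = ψ c := by
        have hinj : Function.Injective β' := (injective_iff_map_eq_zero _).2 fun z hz => by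
          obtain ⟨x, rfl⟩ := Submodule.Quotient.mk_surjective _ z
          refine (Submodule.Quotient.mk_eq_zero _).2 ?_
          rw [Submodule.mem_comap, show (truncSub P g (-1)).subtype x = 0 from hz]
          exact zero_mem _
        haveI : Module.Projective R (P.X (-1) ⧸ LinearMap.range β') := by
          have hr : LinearMap.range β' = truncSub P g (-1) := by
            rw [Submodule.range_liftQ, Submodule.range_subtype]
          haveI := projective_quot_truncSub P g (i := -1) (by lia)
          exact Module.Projective.of_equiv (Submodule.quotEquivOfEq _ _ hr.symm)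
        obtain ⟨σ, hσ⟩ := Module.projective_lifting_property (LinearMap.range β').mkQ LinearMap.id
          (Submodule.mkQ_surjective _)
        let π : P.X (-1) →ₗ[R] LinearMap.range β' :=
          LinearMap.codRestrict _ (LinearMap.id - σ ∘ₗ (LinearMap.range β').mkQ) fun c => by
            refine (Submodule.Quotient.mk_eq_zero (LinearMap.range β')).1 ?_
            show (LinearMap.range β').mkQ (c - σ ((LinearMap.range β').mkQ c)) = 0
            rw [map_sub, ← LinearMap.comp_apply (LinearMap.range β').mkQ σ, hσ, LinearMap.id_apply, sub_self]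
        refine ⟨χ ∘ₗ (LinearEquiv.ofInjective β' hinj).symm.toLinearMap ∘ₗ π, fun c => ?_⟩
        obtain ⟨z, rfl⟩ := hs c
        refine Eq.trans (congrArg χ ((LinearEquiv.symm_apply_eq _).2 (Subtype.ext ?_))) (LinearMap.congr_fun hχ z)
        show v (β z) - σ ((LinearMap.range β').mkQ (v (β z))) = β' (((truncCx P g).d 0 (-1)).hom z)
        rw [hcomm, show (LinearMap.range β').mkQ (β' (((truncCx P g).d 0 (-1)).hom z)) = 0 from
          (Submodule.Quotient.mk_eq_zero _).2 ⟨_, rfl⟩, map_zero, sub_zero]
      exact ⟨χ', LinearMap.ext hχ'⟩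
  · obtain ⟨φ, rfl⟩ := Submodule.Quotient.mk_surjective _ y
    obtain ⟨ψ, rfl⟩ := hext φ
    exact ⟨Submodule.Quotient.mk ψ, rfl⟩

end Groth.Agent.AVPoinc
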