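import Groth.Agent.AVPoinc.SelfDual
import Groth.Agent.AVPoinc.Trunc
import Groth.Agent.CExt24.BCTheory

/-!
The local algebra behind the cohomology of the Poincare bundle.
-/

set_option autoImplicit false
set_option linter.style.haveILetI false
set_option linter.unusedSectionVars false
set_option backward.isDefEq.respectTransparency false
set_option backward.isDefEq.respectTransparency.types false
set_option maxHeartbeats 800000

universe u

open CategoryTheory CategoryTheory.Limits IsLocalRing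
open scoped TensorProduct

noncomputable section

namespace Groth.Agent.AVPoinc

open FlatCxLib (Coker Cyc Hom' toCyc)
open Groth.Agent.CAlgOdd.Acyclicity
open CExt24 (IsFinModel Good)

variable {R : Type u} [CommRing R] [IsLocalRing R] {P : ChainComplex (ModuleCat.{u} R) ℤ}

/-- A degree whose fibre at the closed point has no homology. -/
theorem good_and_subsingleton_of_dRank (hP : IsFinModel P) (q : ℤ)
    (h : CohIII.dRank P q (closedPoint R) = 0) :
    (∀ x, Good P q x) ∧ (∀ x, Good P (q + 1) x) ∧ Subsingleton (Hom' P (q + 1) q (q - 1)) := by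
  obtain ⟨h1, h2⟩ := CExt24.good_of_dRank_eq_zero hP h
  have all : ∀ q', Good P q' (closedPoint R) → ∀ x, Good P q' x := fun q' hq' x =>
    (IsLocalRing.specializes_closedPoint x).mem_open (CExt24.isOpen_good hP q') hq'
  have g1 := all q h1
  refine ⟨g1, all _ h2, ?_⟩
  obtain ⟨hfp, hH⟩ := CExt24.homology_facts hP g1
  haveI := hfp
  have hfp' : ∀ i, Module.FinitePresentation R (P.X i) := fun i =>
    haveI := hP.free i; haveI := hP.finite i; Module.finitePresentation_of_projective _ _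
  have ho : IsOpen {x | CohIII.dRank P q x < 1} :=
    upperSemicontinuous_iff_isOpen_preimage.1 (FlatCxLib.upperSemicontinuous_dRank P hfp' hP.flat _) 1
  have h0 : ∀ x, FlatCxLib.fibreRank (Hom' P (q + 1) q (q - 1)) x = 0 := fun x => by
    rw [← (hH x).2]
    exact Nat.lt_one_iff.1 ((IsLocalRing.specializes_closedPoint x).mem_open ho (by simp [h]))
  exact Submodule.subsingleton_iff R |>.1 (CExt24.subsingleton_of_forall_fibreRank_zero h0)

/-- Exactness after localising clears a denominator. -/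
theorem exists_smul_mem_of_localization {B : Type u} [CommRing B] [inst : Algebra R B] (S : Submonoid R)
    [IsLocalization S B] (φ : R →+* B) (hφ' : ∀ r, algebraMap R B r = φ r) (q : ℤ)
    (h : Subsingleton (Hom' (CohIII.bcCx φ P) (q + 1) q (q - 1))) (z : P.X q)
    (hz : (P.d q (q - 1)).hom z = 0) : ∃ s ∈ S, s • z ∈ LinearMap.range (P.d (q + 1) q).hom := by
  obtain rfl : inst = φ.toAlgebra := Algebra.algebra_ext _ _ hφ'
  letI := φ.toAlgebra
  let Q := CohIII.bcCx φ P
  have hcyc : (Q.d q (q - 1)).hom ((1 : B) ⊗ₜ[R] z) = 0 := by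
    show (P.d q (q - 1)).hom.lTensor B ((1 : B) ⊗ₜ z) = 0
    rw [LinearMap.lTensor_tmul, hz, TensorProduct.tmul_zero]
  obtain ⟨w, hw⟩ := (Submodule.Quotient.mk_eq_zero (LinearMap.range (toCyc Q (q + 1) q (q - 1)))).1
    (@Subsingleton.elim _ h (Submodule.Quotient.mk ⟨(1 : B) ⊗ₜ[R] z, hcyc⟩) 0)
  change B ⊗[R] P.X (q + 1) at w
  have hw' : (P.d (q + 1) q).hom.lTensor B w = (1 : B) ⊗ₜ[R] z := congrArg Subtype.val hw
  haveI : ∀ i, IsLocalizedModule S (TensorProduct.mk R B (P.X i) 1) := fun i =>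
    (isLocalizedModule_iff_isBaseChange S B _).2 (TensorProduct.isBaseChange R (P.X i) B)
  obtain ⟨⟨w₀, s⟩, hs⟩ := IsLocalizedModule.surj S (TensorProduct.mk R B (P.X (q + 1)) 1) w
  change (s : R) • w = (1 : B) ⊗ₜ[R] w₀ at hs
  have h0 : TensorProduct.mk R B (P.X q) 1 ((s : R) • z - (P.d (q + 1) q).hom w₀) = 0 := by
    rw [map_sub, map_smul, TensorProduct.mk_apply, ← hw', ← map_smul, hs, LinearMap.lTensor_tmul]
    exact sub_self _
  obtain ⟨t, ht⟩ := (IsLocalizedModule.eq_zero_iff S (TensorProduct.mk R B (P.X q) 1)).1 h0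
  change (t : R) • ((s : R) • z - (P.d (q + 1) q).hom w₀) = 0 at ht
  refine ⟨(t : R) * s, S.mul_mem t.2 s.2, (t : R) • w₀, ?_⟩
  rw [map_smul, mul_smul]
  exact (sub_eq_zero.1 (by rw [← smul_sub]; exact ht)).symm

/-- Torsion of cycles modulo boundaries. -/
theorem exists_pow_smul_mem [IsNoetherianRing R] (hP : IsFinModel P) (q : ℤ)
    (hsupp : ∀ x : PrimeSpectrum R, x ≠ closedPoint R → CohIII.dRank P q x = 0) (a : R)
    (ha : a ∈ maximalIdeal R) :
    ∃ n, ∀ z : P.X q, (P.d q (q - 1)).hom z = 0 → a ^ n • z ∈ LinearMap.range (P.d (q + 1) q).hom := by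
  let B := LinearMap.range (P.d (q + 1) q).hom
  have key : ∀ z : P.X q, (P.d q (q - 1)).hom z = 0 → ∃ n, a ^ n • z ∈ B := by
    intro z hz
    suffices h : a ∈ (B.colon {z}).radical by
      obtain ⟨n, hn⟩ := h
      exact ⟨n, Submodule.mem_colon_singleton.1 hn⟩
    rw [Ideal.radical_eq_sInf, Ideal.mem_sInf]
    rintro p ⟨hp, hpp⟩
    by_contra hap
    let x : PrimeSpectrum R := ⟨p, hpp⟩
    have hx : x ≠ closedPoint R := fun h => hap (by
      have : p = maximalIdeal R := congrArg PrimeSpectrum.asIdeal h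
      rw [this]
      exact ha)
    let Rp := Localization.AtPrime x.asIdeal
    obtain ⟨-, -, hQ⟩ := good_and_subsingleton_of_dRank (hP.bc (algebraMap R Rp)) q
      ((QCoh.dRank_locCx_closedPoint P x q).trans (hsupp x hx))
    obtain ⟨s, hs, hsz⟩ := exists_smul_mem_of_localization (B := Rp) x.asIdeal.primeCompl (algebraMap R Rp)
      (fun _ => rfl) q hQ z hz
    exact hs (hp (Submodule.mem_colon_singleton.2 hsz))
  haveI := hP.finite q
  haveI : IsNoetherian R (P.X q) := isNoetherian_of_isNoetherianRing_of_finite R _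
  let M : ℕ →o Submodule R (P.X q) :=
    ⟨fun n => B.comap (a ^ n • LinearMap.id) ⊓ LinearMap.ker (P.d q (q - 1)).hom, fun n m h z hz => by
      refine ⟨?_, hz.2⟩
      show a ^ m • z ∈ B
      rw [← Nat.sub_add_cancel h, pow_add, mul_smul]
      exact B.smul_mem _ hz.1⟩
  obtain ⟨n, hn⟩ := monotone_stabilizes_iff_noetherian.2 ‹IsNoetherian R (P.X q)› M
  refine ⟨n, fun z hz => ?_⟩
  obtain ⟨m, hm⟩ := key z hz
  have hmem : z ∈ M (max n m) := M.monotone (le_max_right n m) ⟨hm, hz⟩
  rw [← hn _ (le_max_left n m)] at hmem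
  exact hmem.1

/-- A module with one dimensional space of maps to the residue field and no infinitesimal lifts is the residue field. -/
theorem nonempty_equiv_residue [IsNoetherianRing R] {N : Type u} [AddCommGroup N] [Module R N] [Module.Finite R N]
    (h0 : Nonempty ((N →ₗ[R] R ⧸ maximalIdeal R) ≃ₗ[R] R ⧸ maximalIdeal R))
    (hI : ∀ (I : Ideal R) (h : I ≤ maximalIdeal R), maximalIdeal R ^ 2 ≤ I →
      (∀ ψ : N →ₗ[R] R ⧸ maximalIdeal R, ∃ ψ' : N →ₗ[R] R ⧸ I, Submodule.factor h ∘ₗ ψ' = ψ) →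
      I = maximalIdeal R) :
    Nonempty (N ≃ₗ[R] R ⧸ maximalIdeal R) := by
  obtain ⟨e⟩ := h0
  let ψ₁ : N →ₗ[R] R ⧸ maximalIdeal R := e.symm (Submodule.Quotient.mk 1)
  have hall : ∀ ψ : N →ₗ[R] R ⧸ maximalIdeal R, ∃ c : R, ψ = c • ψ₁ := fun ψ => by
    obtain ⟨c, hc⟩ := Submodule.Quotient.mk_surjective _ (e ψ)
    refine ⟨c, e.injective ?_⟩
    rw [map_smul, LinearEquiv.apply_symm_apply, ← Submodule.Quotient.mk_smul, smul_eq_mul, mul_one, hc]
  have hne : ψ₁ ≠ 0 := fun h => by
    have h' := congrArg e h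
    rw [LinearEquiv.apply_symm_apply, map_zero, Submodule.Quotient.mk_eq_zero] at h'
    exact (maximalIdeal.isMaximal R).ne_top ((Ideal.eq_top_iff_one _).2 h')
  obtain ⟨x, hx⟩ : ∃ x, ψ₁ x ≠ 0 := not_forall.1 fun h => hne (LinearMap.ext h)
  have htop : Submodule.span R {x} = (⊤ : Submodule R N) := by
    refine top_le_iff.1 (Submodule.le_of_le_smul_of_le_jacobson_bot Module.Finite.fg_top
      (maximalIdeal_le_jacobson ⊥) ?_)
    by_contra hW
    let W := Submodule.span R {x} ⊔ maximalIdeal R • (⊤ : Submodule R N)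
    let k' := R ⧸ maximalIdeal R
    letI : Field k' := Ideal.Quotient.field (maximalIdeal R)
    letI : Module k' (N ⧸ maximalIdeal R • (⊤ : Submodule R N)) := inferInstance
    let W' : Submodule k' (N ⧸ maximalIdeal R • (⊤ : Submodule R N)) :=
      { carrier := (Submodule.map (maximalIdeal R • (⊤ : Submodule R N)).mkQ W : Set _)
        add_mem' := fun ha hb => Submodule.add_mem _ ha hb
        zero_mem' := Submodule.zero_mem _
        smul_mem' := fun c y hy => by
          obtain ⟨c, rfl⟩ := Ideal.Quotient.mk_surjective c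
          exact Submodule.smul_mem _ c hy }
    obtain ⟨y, hy⟩ : ∃ y, y ∉ W := not_forall.1 fun h => hW fun z _ => h z
    have hyW' : (maximalIdeal R • (⊤ : Submodule R N)).mkQ y ∉ W' := by
      rintro ⟨w, hw, hwy⟩
      exact hy (by
        have := sub_mem hw (show w - y ∈ W from Submodule.mem_sup_right
          ((Submodule.Quotient.eq _).1 hwy))
        rwa [sub_sub_cancel] at this)
    obtain ⟨F, hF, hFW⟩ := Submodule.exists_dual_map_eq_bot_of_notMem hyW' inferInstance
    let ψ : N →ₗ[R] k' :=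
      { toFun := fun z => F (Submodule.Quotient.mk z)
        map_add' := fun a b => by rw [Submodule.Quotient.mk_add, map_add]
        map_smul' := fun c z => by
          show F (Submodule.Quotient.mk (c • z)) = _
          exact (F.map_smul (Ideal.Quotient.mk _ c) (Submodule.Quotient.mk z)).trans (Algebra.smul_def c _).symm }
    obtain ⟨c, hc⟩ := hall ψ
    have hψx : ψ x = 0 :=
      (Submodule.mem_bot k').1 (hFW ▸ Submodule.mem_map_of_mem
        (show Submodule.Quotient.mk x ∈ W' from ⟨x, Submodule.mem_sup_left (Submodule.mem_span_singleton_self x), rfl⟩))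
    have hcm : c ∈ maximalIdeal R := by
      by_contra hcm
      refine hx ((IsUnit.smul_eq_zero (IsLocalRing.notMem_maximalIdeal.1 hcm)).1 ?_)
      rw [← LinearMap.smul_apply, ← hc]
      exact hψx
    refine hF ?_
    show ψ y = 0
    rw [hc, LinearMap.smul_apply]
    obtain ⟨d, hd⟩ := Submodule.Quotient.mk_surjective _ (ψ₁ y)
    rw [← hd, ← Submodule.Quotient.mk_smul, Submodule.Quotient.mk_eq_zero]
    exact Ideal.mul_mem_right d _ hcm
  let f := LinearMap.toSpanSingleton R N x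
  have hf : Function.Surjective f := LinearMap.range_eq_top.1 (by
    rw [LinearMap.range_toSpanSingleton, htop])
  let J := LinearMap.ker f
  let eJ : (R ⧸ J) ≃ₗ[R] N := f.quotKerEquivOfSurjective hf
  have hJ : J ≤ maximalIdeal R := IsLocalRing.le_maximalIdeal fun h => hx (by
    have h1 : (1 : R) • x = 0 := LinearMap.mem_ker.1 (show (1 : R) ∈ J by rw [h]; trivial)
    rw [one_smul] at h1
    rw [h1, map_zero])
  let I : Ideal R := J ⊔ maximalIdeal R ^ 2
  have hIm : I ≤ maximalIdeal R := sup_le hJ (Ideal.pow_le_self two_ne_zero)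
  have hIeq := hI I hIm le_sup_right fun ψ => by
    obtain ⟨c, hc⟩ := Submodule.Quotient.mk_surjective _ (ψ x)
    let g : (R ⧸ J) →ₗ[R] R ⧸ I := J.liftQ (c • I.mkQ) fun j hj => by
      rw [LinearMap.mem_ker, LinearMap.smul_apply, Submodule.mkQ_apply, ← Submodule.Quotient.mk_smul,
        Submodule.Quotient.mk_eq_zero]
      exact I.mul_mem_left c (Submodule.mem_sup_left hj)
    refine ⟨g ∘ₗ eJ.symm.toLinearMap, LinearMap.ext fun y => ?_⟩
    obtain ⟨r, rfl⟩ := hf y
    have : eJ.symm (f r) = Submodule.Quotient.mk r := (LinearEquiv.symm_apply_eq _).2 rfl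
    show Submodule.factor hIm (g (eJ.symm (f r))) = ψ (r • x)
    rw [this, map_smul, ← hc]
    show Submodule.factor hIm (c • Submodule.Quotient.mk r) = _
    rw [← Submodule.Quotient.mk_smul]
    show Submodule.Quotient.mk (c • r) = _
    rw [← Submodule.Quotient.mk_smul, smul_eq_mul, smul_eq_mul, mul_comm]
  have hmJ : maximalIdeal R ≤ J :=
    Submodule.le_of_le_smul_of_le_jacobson_bot (IsNoetherian.noetherian _) (maximalIdeal_le_jacobson ⊥)
      (hIeq.ge.trans (le_of_eq (show J ⊔ maximalIdeal R ^ 2 = J ⊔ maximalIdeal R • maximalIdeal R by rw [pow_two, smul_eq_mul])))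
  exact ⟨eJ.symm.trans (Submodule.quotEquivOfEq _ _ (le_antisymm hJ hmJ))⟩

/-- A finite free model over a regular local ring which behaves like that of the Poincare bundle at the origin has
homology only in degree `-g`, where it is the residue field. -/
theorem local_cohomology {R : Type u} [CommRing R] [IsRegularLocalRing R] {P : ChainComplex (ModuleCat.{u} R) ℤ}
    (hP : IsFinModel P) (g : ℕ) (hg : ringKrullDim R = g)
    (hlow : ∀ q : ℤ, q < -(g : ℤ) → CohIII.dRank P q (closedPoint R) = 0)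
    (hsupp : ∀ x : PrimeSpectrum R, x ≠ closedPoint R → ∀ q : ℤ, -(g : ℤ) ≤ q → q ≤ 0 → CohIII.dRank P q x = 0)
    (h0 : Nonempty (CohIII.T P 0 (ModuleCat.of R (R ⧸ maximalIdeal R)) ≃ₗ[R] R ⧸ maximalIdeal R))
    (hI : ∀ (I : Ideal R) (h : I ≤ maximalIdeal R), maximalIdeal R ^ 2 ≤ I →
      Function.Surjective ((CohIII.TFun P 0).map (ModuleCat.ofHom (Submodule.factor h))).hom → I = maximalIdeal R) :
    (∀ q : ℤ, q ≠ -(g : ℤ) → Subsingleton (Hom' P (q + 1) q (q - 1))) ∧
      Nonempty (Hom' P (-(g : ℤ) + 1) (-(g : ℤ)) (-(g : ℤ) - 1) ≃ₗ[R] R ⧸ maximalIdeal R) := by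
  haveI := fun i => hP.free i
  haveI := fun i => hP.finite i
  -- the two good ends
  have hproj : ∀ p r : ℤ, r + 1 = p → (∀ x, Good P p x) → Module.Projective R (Coker P p r) := by
    intro p r hr hgood
    obtain rfl : r = p - 1 := by lia
    haveI := hP.finitePresentation_coker p (p - 1)
    exact Module.freeLocus_eq_univ_iff.1 (Set.eq_univ_of_forall hgood)
  haveI : Module.Projective R (Coker P 1 0) := hproj 1 0 rfl fun x => CExt24.good_top hP one_pos x
  haveI : Module.Projective R (Coker P (-(g : ℤ)) (-(g : ℤ) - 1)) := by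
    refine hproj _ _ (by lia) ?_
    have h := (good_and_subsingleton_of_dRank hP (-(g : ℤ) - 1) (hlow _ (by lia))).2.1
    rwa [show -(g : ℤ) - 1 + 1 = -(g : ℤ) by lia] at h
  let Q := truncCx P g
  have hfin : ∀ i, Module.Finite R (Q.X i) := fun i => finite_truncX P g i
  have hfree : ∀ i, Module.Free R (Q.X i) := fun i => by
    haveI := projective_truncX P g i
    haveI := finite_truncX P g i
    exact Module.free_of_flat_of_isLocalRing (P := TruncX P g i)
  -- torsion
  have hkill : ∀ a ∈ maximalIdeal R, ∃ n, ∀ (q : ℤ) (z : Q.X q), Q.d q (q - 1) z = 0 →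
      ∃ w : Q.X (q + 1), Q.d (q + 1) q w = a ^ n • z := by
    intro a ha
    have key : ∀ q : ℤ, ∃ n, -(g : ℤ) ≤ q → q ≤ 0 → ∀ x : P.X q, (P.d q (q - 1)).hom x = 0 →
        a ^ n • x ∈ LinearMap.range (P.d (q + 1) q).hom := fun q => by
      by_cases hq : -(g : ℤ) ≤ q ∧ q ≤ 0
      · obtain ⟨n, hn⟩ := exists_pow_smul_mem hP q (fun x hx => hsupp x hx q hq.1 hq.2) a ha
        exact ⟨n, fun _ _ => hn⟩
      · exact ⟨0, fun h1 h2 => absurd ⟨h1, h2⟩ hq⟩
    choose n hn using key
    refine ⟨(Finset.Icc (-(g : ℤ)) 0).sup n, truncCx_killed P g _ fun q h1 h2 x hx => ?_⟩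
    obtain ⟨j, hj⟩ := Nat.exists_eq_add_of_le (Finset.le_sup (f := n) (Finset.mem_Icc.2 ⟨h1, h2⟩))
    rw [hj, pow_add, mul_comm, mul_smul]
    exact Submodule.smul_mem _ _ (hn q h1 h2 x hx)
  -- the corepresenting module is the residue field
  have hN : Nonempty (((dualCx Q).X 0 ⧸ LinearMap.range ((dualCx Q).d 1 0).hom) ≃ₗ[R] R ⧸ maximalIdeal R) := by
    let N := ModuleCat.of R (QCoh.corepQ P 1 0 (-1))
    obtain ⟨e⟩ := QCoh.nonempty_corep_iso (P := P) (p := 1) (q := 0) (r := -1) rfl rfl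
    let hom : ∀ M : ModuleCat.{u} R, CohIII.T P 0 M ≃ₗ[R] (N →ₗ[R] M) := fun M =>
      (e.app M).toLinearEquiv.trans (ModuleCat.homLinearEquiv (S := R))
    obtain ⟨e₀⟩ := h0
    have h1 : Nonempty (N ≃ₗ[R] R ⧸ maximalIdeal R) := by
      refine nonempty_equiv_residue ⟨(hom _).symm.trans e₀⟩ fun I h hm2 hlift => hI I h hm2 fun z => ?_
      obtain ⟨ψ', hψ'⟩ := hlift (hom _ z)
      refine ⟨(hom (ModuleCat.of R (R ⧸ I))).symm ψ', (hom _).injective ?_⟩
      refine Eq.trans ?_ hψ'
      refine (congrArg (ModuleCat.homLinearEquiv (S := R))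
        (congr(($(e.hom.naturality (ModuleCat.ofHom (Submodule.factor h)))).hom
          ((hom (ModuleCat.of R (R ⧸ I))).symm ψ')))).trans ?_
      show (((e.hom.app _).hom ((hom (ModuleCat.of R (R ⧸ I))).symm ψ')) ≫ ModuleCat.ofHom (Submodule.factor h)).hom =
        Submodule.factor h ∘ₗ ψ'
      rw [ModuleCat.hom_comp]
      exact congrArg (Submodule.factor h ∘ₗ ·) ((hom (ModuleCat.of R (R ⧸ I))).apply_symm_apply ψ')
    obtain ⟨e₁⟩ := h1
    obtain ⟨e₂⟩ := nonempty_corepQ_equiv P g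
    let e₃ : ((dualCx Q).X 0 ⧸ LinearMap.range ((dualCx Q).d 1 0).hom) ≃ₗ[R]
        Module.Dual R (TruncX P g 0) ⧸ LinearMap.range (Q.d 0 (-1)).hom.dualMap :=
      Submodule.quotEquivOfEq _ _ (by rw [dualCx_d]; rfl)
    exact ⟨e₃.trans (e₂.symm.trans e₁)⟩
  obtain ⟨hex, ⟨eg⟩⟩ := self_dual Q g hg hfin hfree (fun _ => isZero_truncCx_low P g)
    (fun _ => isZero_truncCx_high P g) hkill hN
  have hexQ : ∀ q : ℤ, -(g : ℤ) < q → ∀ z : Q.X q, (Q.d q (q - 1)).hom z = 0 →
      ∃ w : Q.X (q + 1), (Q.d (q + 1) q).hom w = z := by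
    intro q hq
    obtain ⟨j, rfl⟩ : ∃ j : ℕ, q = ((j + 1 : ℕ) : ℤ) - g := ⟨(q + g - 1).toNat, by lia⟩
    intro z hz
    have e1 : (((j + 1 : ℕ) : ℤ) - g - 1) = (j : ℤ) - g := by lia
    rw [e1] at hz
    obtain ⟨w, hw⟩ := (exactAt_iff_elem (revCx Q g) j).1 (hex j) z (by rw [revCx_d]; exact hz)
    rw [revCx_d] at hw
    have e2 : ∀ (i i' : ℤ), i = i' → ∀ (w : Q.X i), (Q.d i (((j + 1 : ℕ) : ℤ) - g)).hom w = z →
        ∃ w' : Q.X i', (Q.d i' (((j + 1 : ℕ) : ℤ) - g)).hom w' = z := fun i i' h w hw => by subst h; exact ⟨w, hw⟩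
    exact e2 _ _ (by lia) w hw
  refine ⟨fun q hq => ?_, ?_⟩
  · rcases lt_or_gt_of_ne hq with h | h
    · exact (good_and_subsingleton_of_dRank hP q (hlow q h)).2.2
    by_cases hpos : 0 < q
    · haveI := ModuleCat.subsingleton_of_isZero (hP.pos q hpos (ModuleCat.of R R))
      exact (FlatCxLib.hom'EquivT (show q + 1 = q + 1 from rfl) (show q - 1 + 1 = q by lia)).toEquiv.subsingleton
    refine subsingleton_of_forall_eq 0 fun y => ?_
    obtain ⟨⟨x, hx⟩, rfl⟩ := Submodule.Quotient.mk_surjective _ y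
    let z : truncSub P g q := ⟨x, by rw [truncSub_eq_top P g h]; trivial⟩
    obtain ⟨w, hw⟩ := hexQ q h (Submodule.Quotient.mk z) (by
      refine (truncCx_d_mk P g (show q - 1 + 1 = q by lia) z).trans ((Submodule.Quotient.mk_eq_zero _).2 ?_)
      show (P.d q (q - 1)).hom x ∈ truncRel P (q - 1)
      rw [LinearMap.mem_ker.1 hx]
      exact zero_mem _)
    change TruncX P g (q + 1) at w
    obtain ⟨⟨w, hwS⟩, rfl⟩ := Submodule.Quotient.mk_surjective _ w
    have hd : (P.d (q + 1) q).hom w - x ∈ truncRel P q :=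
      (Submodule.Quotient.eq ((truncRel P q).comap (truncSub P g q).subtype)).1
        ((truncCx_d_mk P g rfl _).symm.trans hw)
    have hrel : truncRel P q ≤ LinearMap.range (P.d (q + 1) q).hom := by
      rw [truncRel, if_neg hpos]
      split_ifs
      · exact le_rfl
      · exact bot_le
    obtain ⟨v, hv⟩ := hrel hd
    exact (Submodule.Quotient.mk_eq_zero _).2 ⟨w - v, Subtype.ext (by
      show (P.d (q + 1) q).hom (w - v) = x
      rw [map_sub, hv, sub_sub_cancel])⟩
  · let C := Cyc P (-(g : ℤ)) (-(g : ℤ) - 1)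
    have hS : truncSub P g (-(g : ℤ)) = C := by rw [truncSub, if_neg (lt_irrefl _), if_pos rfl]
    let Y := Q.X (-(g : ℤ)) ⧸ LinearMap.range (Q.d (-(g : ℤ) + 1) (-(g : ℤ))).hom
    let φ : C →ₗ[R] Y :=
      (LinearMap.range (Q.d (-(g : ℤ) + 1) (-(g : ℤ))).hom).mkQ ∘ₗ
        ((truncRel P (-(g : ℤ))).comap (truncSub P g (-(g : ℤ))).subtype).mkQ ∘ₗ
          (LinearEquiv.ofEq _ _ hS.symm).toLinearMap
    have hφs : Function.Surjective φ := fun y => by
      obtain ⟨y, rfl⟩ := Submodule.Quotient.mk_surjective _ y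
      change TruncX P g (-(g : ℤ)) at y
      obtain ⟨x, rfl⟩ := Submodule.Quotient.mk_surjective _ y
      exact ⟨LinearEquiv.ofEq _ _ hS x, rfl⟩
    have hrel : truncRel P (-(g : ℤ)) ≤ LinearMap.range (P.d (-(g : ℤ) + 1) (-(g : ℤ))).hom := by
      rw [truncRel, if_neg (by lia)]
      split_ifs
      · exact le_rfl
      · exact bot_le
    have hker : LinearMap.ker φ = LinearMap.range (toCyc P (-(g : ℤ) + 1) (-(g : ℤ)) (-(g : ℤ) - 1)) := by
      ext ⟨x, hx⟩
      constructor
      · intro hxφ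
        obtain ⟨w, hw⟩ := (Submodule.Quotient.mk_eq_zero _).1 (LinearMap.mem_ker.1 hxφ)
        change TruncX P g (-(g : ℤ) + 1) at w
        obtain ⟨⟨w, hwS⟩, rfl⟩ := Submodule.Quotient.mk_surjective _ w
        have hd : (P.d (-(g : ℤ) + 1) (-(g : ℤ))).hom w - x ∈ truncRel P (-(g : ℤ)) :=
          (Submodule.Quotient.eq ((truncRel P (-(g : ℤ))).comap (truncSub P g (-(g : ℤ))).subtype)).1
            ((truncCx_d_mk P g rfl _).symm.trans hw)
        obtain ⟨v, hv⟩ := hrel hd
        refine ⟨w - v, Subtype.ext ?_⟩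
        show (P.d (-(g : ℤ) + 1) (-(g : ℤ))).hom (w - v) = x
        rw [map_sub, hv, sub_sub_cancel]
      · rintro ⟨w, hw⟩
        have hw' : (P.d (-(g : ℤ) + 1) (-(g : ℤ))).hom w = x := congrArg Subtype.val hw
        rw [LinearMap.mem_ker]
        refine (Submodule.Quotient.mk_eq_zero _).2 ?_
        by_cases hg0 : g = 0
        · have hx0 : x ∈ truncRel P (-(g : ℤ)) := by
            rw [truncRel, if_neg (by lia), if_pos (by simp [hg0])]
            exact ⟨w, hw'⟩
          refine ⟨0, ?_⟩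
          rw [map_zero]
          exact ((Submodule.Quotient.mk_eq_zero ((truncRel P (-(g : ℤ))).comap (truncSub P g (-(g : ℤ))).subtype)).2 hx0).symm
        · refine ⟨Submodule.Quotient.mk ⟨w, by rw [truncSub_eq_top P g (by lia)]; trivial⟩, ?_⟩
          refine (truncCx_d_mk P g rfl _).trans ?_
          exact congrArg Submodule.Quotient.mk (Subtype.ext hw')
    exact ⟨((Submodule.quotEquivOfEq _ _ hker.symm).trans (φ.quotKerEquivOfSurjective hφs)).trans eg⟩

end Groth.Agent.AVPoinc
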