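import Groth.Agent.CExt24.BCAlg
import Groth.Agent.QCoh.LocalExchange

/-!
Surjectivity of `T`-functor maps along changes of rings, and a one dimensional fibre.
-/

set_option autoImplicit false
set_option linter.style.haveILetI false
set_option linter.unusedSectionVars false
set_option backward.isDefEq.respectTransparency false
set_option backward.isDefEq.respectTransparency.types false

universe u

open CategoryTheory CategoryTheory.Limits IsLocalRing

noncomputable section

namespace Groth.Agent.AVPoinc

variable {A : Type u} [CommRing A] {c : ComplexShape ℤ}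

/-- Isomorphic maps stay surjective after a functor. -/
theorem surjective_map_of_square (F : ModuleCat.{u} A ⥤ ModuleCat.{u} A) {M N M' N' : ModuleCat.{u} A}
    {f : M ⟶ N} {f' : M' ⟶ N'} (i : M ≅ M') (j : N ≅ N') (h : f ≫ j.hom = i.hom ≫ f') :
    Function.Surjective (F.map f).hom ↔ Function.Surjective (F.map f').hom := by
  have e : F.map f' = F.map i.inv ≫ F.map f ≫ F.map j.hom := by
    rw [← F.map_comp, ← F.map_comp, h, Iso.inv_hom_id_assoc]
  have hi := ConcreteCategory.bijective_of_isIso (F.map i.inv)
  have hj := ConcreteCategory.bijective_of_isIso (F.map j.hom)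
  rw [e]
  show _ ↔ Function.Surjective (fun z => (F.map j.hom).hom ((F.map f).hom ((F.map i.inv).hom z)))
  constructor
  · intro hs
    exact hj.2.comp (hs.comp hi.2)
  · intro hs y
    obtain ⟨z, hz⟩ := hs ((F.map j.hom).hom y)
    exact ⟨_, hj.1 hz⟩

/-- Surjectivity through a change of rings. -/
theorem surjective_bc_iff (P : HomologicalComplex (ModuleCat.{u} A) c) {B : Type u} [CommRing B] (φ : A →+* B)
    (p : ℤ) {M N : ModuleCat.{u} B} (f : M ⟶ N) :
    Function.Surjective ((CohIII.TFun (CohIII.bcCx φ P) p).map f).hom ↔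
      Function.Surjective ((CohIII.TFun P p).map ((ModuleCat.restrictScalars φ).map f)).hom := by
  obtain ⟨e⟩ := QCoh.nonempty_bcT_iso P φ p
  have hM := ConcreteCategory.bijective_of_isIso (e.hom.app M)
  have hN := ConcreteCategory.bijective_of_isIso (e.hom.app N)
  have hn : ∀ x, (e.hom.app N) (((CohIII.TFun (CohIII.bcCx φ P) p).map f).hom x) =
      ((CohIII.TFun P p).map ((ModuleCat.restrictScalars φ).map f)).hom ((e.hom.app M) x) := fun x =>
    ConcreteCategory.congr_hom (e.hom.naturality f) x
  constructor
  · intro hs y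
    obtain ⟨y', rfl⟩ := hN.2 y
    obtain ⟨x, rfl⟩ := hs y'
    exact ⟨_, (hn x).symm⟩
  · intro hs y
    obtain ⟨z, hz⟩ := hs ((e.hom.app N) y)
    obtain ⟨x, rfl⟩ := hM.2 z
    exact ⟨x, hN.1 ((hn x).trans hz)⟩

/-- A one dimensional fibre at the closed point. -/
theorem nonempty_T_residue_equiv [IsLocalRing A] {P : ChainComplex (ModuleCat.{u} A) ℤ} (q : ℤ)
    (h : CohIII.dRank P q (closedPoint A) = 1) :
    Nonempty (CohIII.T P q (ModuleCat.of A (A ⧸ maximalIdeal A)) ≃ₗ[A] A ⧸ maximalIdeal A) := by
  let K := ResidueField A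
  let P'' := CohIII.bcCx (residue A) P
  have h1 : Module.finrank K (P''.homology q) = 1 :=
    (QCoh.finrank_bc_eq_dRank (residue A) P (closedPoint A) ker_residue q).trans h
  letI : Algebra A K := (residue A).toAlgebra
  obtain ⟨t₀, t, -, -, ht⟩ := CExt24.exists_tfun_equiv (B := K) P q
  haveI : Module.Finite K (P''.homology q) := Module.finite_of_finrank_eq_succ h1
  obtain ⟨el⟩ : Nonempty ((P''.homology q : ModuleCat.{u} K) ≃ₗ[K] K) :=
    FiniteDimensional.nonempty_linearEquiv_of_finrank_eq (h1.trans (Module.finrank_self K).symm)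
  let M := ModuleCat.of A (A ⧸ maximalIdeal A)
  let i : M ≅ CExt24.algMod A K := LinearEquiv.toModuleIso
    { toFun := fun z => z, invFun := fun z => z, left_inv := fun _ => rfl, right_inv := fun _ => rfl,
      map_add' := fun _ _ => rfl,
      map_smul' := fun a z => by
        obtain ⟨z, rfl⟩ := Submodule.Quotient.mk_surjective _ z
        rfl }
  let e₁ : CohIII.T P q M ≃ₗ[A] CohIII.T P q (CExt24.algMod A K) := ((CohIII.TFun P q).mapIso i).toLinearEquiv
  have hsmul : ∀ (a : A) (z : CohIII.T P q (CExt24.algMod A K)), a • z =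
      (CohIII.TFun P q).map (CExt24.mulMap A (algebraMap A K a)) z := fun a z => by
    have e : CExt24.mulMap A (algebraMap A K a) = a • 𝟙 (CExt24.algMod A K) := ModuleCat.hom_ext (LinearMap.ext fun w => by
      show algebraMap A K a * w = a • w
      rw [Algebra.smul_def])
    rw [e, Functor.map_smul, CategoryTheory.Functor.map_id]
    rfl
  let e₂ : CohIII.T P q (CExt24.algMod A K) ≃ₗ[A] A ⧸ maximalIdeal A :=
    { t.symm.trans el.toAddEquiv with
      map_smul' := fun a z => by
        show el (t.symm (a • z)) = a • el (t.symm z)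
        rw [hsmul, show (CohIII.TFun P q).map (CExt24.mulMap A (algebraMap A K a)) z =
          t ((algebraMap A K a) • t.symm z) by rw [ht, AddEquiv.apply_symm_apply], AddEquiv.symm_apply_apply,
          map_smul]
        show algebraMap A K a * el (t.symm z) = _
        obtain ⟨w, hw⟩ := Submodule.Quotient.mk_surjective _ (el (t.symm z))
        rw [← hw]
        rfl }
  exact ⟨e₁.trans e₂⟩

/-- Restrictions of scalars of compatibly isomorphic modules. -/
def restrictIso {R B : Type u} [CommRing R] [CommRing B] (φ : A →+* R) (χ : A →+* B) {M : ModuleCat.{u} R}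
    {N : ModuleCat.{u} B} (e : M ≃+ N) (h : ∀ (a : A) (m : M), e (φ a • m) = χ a • e m) :
    (ModuleCat.restrictScalars φ).obj M ≅ (ModuleCat.restrictScalars χ).obj N :=
  LinearEquiv.toModuleIso (X₁ := (ModuleCat.restrictScalars φ).obj M) (X₂ := (ModuleCat.restrictScalars χ).obj N)
    { e with map_smul' := h }

end Groth.Agent.AVPoinc
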