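import Groth.Agent.AVPoinc.Local
import Groth.Agent.AVPoinc.InfTriv
import Groth.Agent.AVPoinc.Transport
import Groth.Agent.GrpSchLib.FieldDim
import Groth.Agent.GrpSchLib.SmoothRegular

/-!
The model of the Poincare bundle at the origin of the dual.
-/

set_option linter.style.haveILetI false
set_option linter.unusedSectionVars false
set_option backward.isDefEq.respectTransparency false
set_option backward.isDefEq.respectTransparency.types false
set_option autoImplicit false
set_option maxHeartbeats 1000000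

universe u

open CategoryTheory CategoryTheory.Limits MonoidalCategory CartesianMonoidalCategory MonObj AlgebraicGeometry
open TopologicalSpace IsLocalRing

namespace Groth.Agent.AVPoinc

open Groth.Agent.H23 Groth.Agent.H23.TrivBasic Groth.Agent.AVPair Groth.Agent.AVAmple
open Groth.Agent.QCoh (overSpec)
open FlatCxLib (Hom')
open scoped Groth.Agent.H23.PicMul

variable {k : Type u} [Field k] [IsAlgClosed k] {A At : Over (Spec (CommRingCat.of k))} [GrpObj A] [IsProper A.hom]
  [GeometricallyIntegral A.hom] [GrpObj At] [IsProper At.hom] [Smooth At.hom] [GeometricallyIntegral At.hom]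

/-- The local ring of an affine open at a point is regular of the expected dimension. -/
theorem local_ring_facts {V : At.left.Opens} (hV : IsAffineOpen V) {y : At.left} (hy : y ∈ V)
    (hyc : IsClosed ({y} : Set At.left)) {g : ℕ} (hg : topologicalKrullDim At.left = g) :
    IsRegularLocalRing (Localization.AtPrime (hV.primeIdealOf ⟨y, hy⟩).asIdeal) ∧
      ringKrullDim (Localization.AtPrime (hV.primeIdealOf ⟨y, hy⟩).asIdeal) = g := by
  letI := TopCat.Presheaf.algebra_section_stalk At.left.presheaf (⟨y, hy⟩ : V)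
  haveI := hV.isLocalization_stalk ⟨y, hy⟩
  let e := (IsLocalization.algEquiv (hV.primeIdealOf ⟨y, hy⟩).asIdeal.primeCompl (At.left.presheaf.stalk y)
    (Localization.AtPrime (hV.primeIdealOf ⟨y, hy⟩).asIdeal)).toRingEquiv
  haveI := GrpSchLib.isRegularLocalRing_stalk_of_smooth At.hom y
  refine ⟨IsRegularLocalRing.of_ringEquiv e, ?_⟩
  rw [← ringKrullDim_eq_of_ringEquiv e, GrpSchLib.ringKrullDim_stalk_eq hyc, hg]

variable {φ : ∀ T : Over (Spec (CommRingCat.of k)), PicF.Cl (PicF.XT A.hom T) → (T ⟶ At)}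
  (hφ : AbDual.IsDualAV Scheme.fppfPrecoverage A At φ) {P : (A ⊗ At).left.Modules} (hP : PicF.IsInvertible P)
  (hξ : AbDual.IsPoincareCl A At φ (PicF.cl P))
include hφ hP hξ

/-- Near the unit the model has only top homology, the residue field of the unit. -/
theorem model_at_origin {V : At.left.Opens} (hV : IsAffineOpen V) (he : org At ∈ V)
    {Pc : ChainComplex (ModuleCat.{u} Γ(At.left, V)) ℤ}
    (hPc : CExt24.IsModelOn (snd A At).left P hV Pc) {g : ℕ} (hgA : topologicalKrullDim A.left = g)
    (hgAt : topologicalKrullDim At.left = g) :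
    (∀ q : ℤ, q ≠ -(g : ℤ) →
      Subsingleton (Hom' (QCoh.locCx Pc (hV.primeIdealOf ⟨org At, he⟩)) (q + 1) q (q - 1))) ∧
      Nonempty (Hom' (QCoh.locCx Pc (hV.primeIdealOf ⟨org At, he⟩)) (-(g : ℤ) + 1) (-(g : ℤ)) (-(g : ℤ) - 1)
        ≃ₗ[Localization.AtPrime (hV.primeIdealOf ⟨org At, he⟩).asIdeal]
        (Localization.AtPrime (hV.primeIdealOf ⟨org At, he⟩).asIdeal ⧸
          maximalIdeal (Localization.AtPrime (hV.primeIdealOf ⟨org At, he⟩).asIdeal))) := by
  let f := (snd A At).left
  let A0 := Γ(At.left, V)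
  let x0 := hV.primeIdealOf ⟨org At, he⟩
  let R := Localization.AtPrime x0.asIdeal
  have hecl : IsClosed ({org At} : Set At.left) := isClosed_pt η[At]
  obtain ⟨hreg, hdim⟩ := local_ring_facts hV he hecl hgAt
  haveI := hreg
  have hF := ProjUPX.isQCoh_of_isInvertible hP
  have hd : ∀ (z : At.left) (hz : z ∈ V) (p : ℕ), Subsingleton (CohIII.fiberH f P z p) →
      CohIII.dRank Pc (-(p : ℤ)) (hV.primeIdealOf ⟨z, hz⟩) = 0 := fun z hz p h =>
    (CExt24.subsingleton_fiberH_iff_dRank f hV hz hF hPc.1.finite hPc.2 p).1 h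
  let P' := QCoh.locCx Pc x0
  have hP' : CExt24.IsFinModel P' := hPc.1.bc _
  refine local_cohomology hP' g hdim (fun q hq => ?_) (fun x hx q h1 h2 => ?_) ?_ fun I hIm hI2 hsur => ?_
  · refine (QCoh.dRank_locCx_closedPoint Pc x0 q).trans ?_
    rw [show q = -(((-q).toNat : ℕ) : ℤ) by lia]
    exact hd _ he _ (subsingleton_fiberH_high hφ hP hξ hgA (by lia) _)
  · refine (QCoh.dRank_locCx Pc x0 q x).trans ?_
    obtain ⟨z, hz, hzx⟩ := CExt24.exists_primeIdealOf hV (PrimeSpectrum.comap (algebraMap A0 R) x)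
    rw [← hzx, show q = -(((-q).toNat : ℕ) : ℤ) by lia]
    refine hd z hz _ (subsingleton_fiberH_away hφ hP hξ _ fun hzo => hx ?_)
    subst hzo
    refine PrimeSpectrum.localization_comap_injective R x0.asIdeal.primeCompl ?_
    rw [← hzx]
    exact (PrimeSpectrum.ext (IsLocalization.AtPrime.under_maximalIdeal _ x0.asIdeal)).symm
  · exact nonempty_T_residue_equiv 0 ((QCoh.dRank_locCx_closedPoint Pc x0 0).trans
      ((CExt24.fiberRank_eq_dRank f hV he hF hPc.2 0).symm.trans (fiberRank_org hφ hP hξ)))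
  · -- the section of the affine open at the unit
    have hrange : Set.range η[At].left ⊆ Set.range hV.fromSpec := by
      rw [hV.range_fromSpec]
      rintro _ ⟨w, rfl⟩
      haveI : Subsingleton ↥(𝟙_ (Over (Spec (CommRingCat.of k)))).left :=
        inferInstanceAs (Subsingleton (PrimeSpectrum k))
      rw [Subsingleton.elim w (closedPoint k)]
      exact he
    let σ : Spec (CommRingCat.of k) ⟶ Spec A0 := IsOpenImmersion.lift hV.fromSpec η[At].left hrange
    have hσ : σ ≫ hV.fromSpec = η[At].left := IsOpenImmersion.lift_fac _ _ _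
    let ρ : A0 ⟶ CommRingCat.of k := Spec.preimage σ
    have hρ : Spec.map ρ = σ := Spec.map_preimage _
    let ψ : CommRingCat.of k ⟶ A0 := Spec.preimage (hV.fromSpec ≫ At.hom)
    have hψ : Spec.map ψ = hV.fromSpec ≫ At.hom := Spec.map_preimage _
    have hψρ : ψ ≫ ρ = 𝟙 _ := Spec.map_injective (by
      rw [Spec.map_comp, hψ, Spec.map_id, hρ, ← Category.assoc, hσ]
      exact Over.w η[At])
    have hkerρ : RingHom.ker ρ.hom = x0.asIdeal := by
      have h2 : σ (closedPoint k) = x0 := by
        refine hV.fromSpec.isOpenEmbedding.injective ?_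
        rw [hV.fromSpec_primeIdealOf, ← Scheme.Hom.comp_apply, hσ]
        rfl
      rw [← h2, ← hρ]
      show _ = Ideal.comap ρ.hom (maximalIdeal k)
      rw [RingHom.ker_eq_comap_bot, maximalIdeal_eq_bot]
    have hunit : ∀ a : x0.asIdeal.primeCompl, IsUnit (ρ.hom a) := fun a =>
      isUnit_iff_ne_zero.2 fun h => a.2 (hkerρ.le (RingHom.mem_ker.2 h))
    let ρR : R →+* k := IsLocalization.lift hunit
    have hρR : ∀ a, ρR (algebraMap A0 R a) = ρ.hom a := fun a => IsLocalization.lift_eq hunit a
    have hsurjR : Function.Surjective ρR := fun c =>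
      ⟨algebraMap A0 R (ψ.hom c), (hρR _).trans congr($hψρ c)⟩
    have hkerR : RingHom.ker ρR = maximalIdeal R :=
      IsLocalRing.eq_maximalIdeal (RingHom.ker_isMaximal_of_surjective ρR hsurjR)
    let B := R ⧸ I
    let φB : A0 →+* B := (Ideal.Quotient.mk I).comp (algebraMap A0 R)
    let ε : B →+* k := Ideal.Quotient.lift I ρR fun a ha => RingHom.mem_ker.1 (hkerR.ge (hIm ha))
    let T : Over (Spec (CommRingCat.of k)) := Over.mk (Spec.map (ψ ≫ CommRingCat.ofHom φB))
    have hεφ : CommRingCat.ofHom φB ≫ CommRingCat.ofHom ε = ρ := CommRingCat.hom_ext (RingHom.ext hρR)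
    let b : 𝟙_ (Over (Spec (CommRingCat.of k))) ⟶ T := Over.homMk (Spec.map (CommRingCat.ofHom ε)) (by
      show Spec.map (CommRingCat.ofHom ε) ≫ Spec.map (ψ ≫ CommRingCat.ofHom φB) = 𝟙 _
      rw [← Spec.map_comp, Category.assoc, hεφ, hψρ, Spec.map_id])
    let v : T ⟶ At := Over.homMk (Spec.map (CommRingCat.ofHom φB) ≫ hV.fromSpec) (by
      show (Spec.map (CommRingCat.ofHom φB) ≫ hV.fromSpec) ≫ At.hom = Spec.map (ψ ≫ CommRingCat.ofHom φB)
      rw [Category.assoc, ← hψ, Spec.map_comp])
    have hbv : b ≫ v = 1 := by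
      rw [one_eq_unit]
      apply Over.OverMorphism.ext
      show Spec.map (CommRingCat.ofHom ε) ≫ Spec.map (CommRingCat.ofHom φB) ≫ hV.fromSpec = η[At].left
      rw [← Category.assoc, ← Spec.map_comp, hεφ, hρ, hσ]
    haveI : Surjective b.left := by
      refine ⟨fun w => ⟨closedPoint k, ?_⟩⟩
      let w' : PrimeSpectrum B := w
      refine PrimeSpectrum.ext (R := B) ?_
      show Ideal.comap ε (maximalIdeal k) = w'.asIdeal
      have hw : maximalIdeal R ≤ w'.asIdeal.comap (Ideal.Quotient.mk I) := fun a ha => by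
        refine (w'.2.comap (Ideal.Quotient.mk I)).mem_of_pow_mem 2 ?_
        rw [Ideal.mem_comap, Ideal.Quotient.eq_zero_iff_mem.2 (hI2 (Ideal.pow_mem_pow ha 2))]
        exact zero_mem _
      ext z
      obtain ⟨z, rfl⟩ := Ideal.Quotient.mk_surjective z
      rw [Ideal.mem_comap, maximalIdeal_eq_bot, Ideal.mem_bot]
      show ρR z = 0 ↔ _
      rw [← RingHom.mem_ker, hkerR]
      exact ⟨fun h => hw h, fun h => IsLocalRing.le_maximalIdeal (w'.2.comap (Ideal.Quotient.mk I)).ne_top
        (show z ∈ w'.asIdeal.comap (Ideal.Quotient.mk I) from h)⟩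
    let N := (Scheme.Modules.pullback (A ◁ v).left).obj P
    have hsqv : IsPullback (A ◁ v).left (snd A T).left f v.left := by
      refine IsPullback.of_right (t := IsPullback.of_hasPullback A.hom At.hom) ?_ ?_
      · have e1 : (A ◁ v).left ≫ pullback.fst A.hom At.hom = (fst A T).left := by
          show (A ◁ v).left ≫ (fst A At).left = _
          rw [← Over.comp_left, whiskerLeft_fst]
        have e2 : v.left ≫ At.hom = T.hom := Over.w v
        rw [e1, e2]
        exact IsPullback.of_hasPullback A.hom T.hom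
      · show (A ◁ v).left ≫ (snd A At).left = _
        rw [← Over.comp_left, whiskerLeft_snd, Over.comp_left]
    have hrange' : Set.range (A ◁ v).left ⊆ Set.range (f ⁻¹ᵁ V).ι := by
      rintro _ ⟨z, rfl⟩
      rw [Scheme.Opens.range_ι]
      show f ((A ◁ v).left z) ∈ V
      rw [← Scheme.Hom.comp_apply, hsqv.w]
      exact hV.range_fromSpec.le ⟨_, rfl⟩
    let g0 := IsOpenImmersion.lift (f ⁻¹ᵁ V).ι (A ◁ v).left hrange'
    have hg0 : g0 ≫ (f ⁻¹ᵁ V).ι = (A ◁ v).left := IsOpenImmersion.lift_fac _ _ _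
    have hsq : IsPullback g0 (snd A T).left (overSpec f hV) (Spec.map (CommRingCat.ofHom φB)) := by
      have hB : IsPullback (f ⁻¹ᵁ V).ι (overSpec f hV) f hV.fromSpec := by
        refine (isPullback_morphismRestrict f V).flip.of_iso (Iso.refl _) (Iso.refl _) hV.isoSpec (Iso.refl _)
          ?_ ?_ ?_ ?_
        · simp
        · simp [overSpec]
        · simp
        · simp [IsAffineOpen.isoSpec_hom_fromSpec]
      have hC : IsPullback (g0 ≫ (f ⁻¹ᵁ V).ι) (snd A T).left f (Spec.map (CommRingCat.ofHom φB) ≫ hV.fromSpec) := by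
        rw [hg0]
        exact hsqv
      refine hC.of_right ?_ hB
      rw [← cancel_mono hV.fromSpec, Category.assoc, QCoh.overSpec_fromSpec, ← Category.assoc, hg0, hsqv.w,
        Category.assoc]
      rfl
    have hFU := QCoh.isQCoh_restrict (f ⁻¹ᵁ V).ι hF
    let eN : (Scheme.Modules.pullback g0).obj (P.restrict (f ⁻¹ᵁ V).ι) ≅ N :=
      (Scheme.Modules.pullback g0).mapIso ((Scheme.Modules.restrictFunctorIsoPullback (f ⁻¹ᵁ V).ι).app P) ≪≫
        (Scheme.Modules.pullbackComp g0 (f ⁻¹ᵁ V).ι).app P ≪≫ (Scheme.Modules.pullbackCongr hg0).app P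
    have hPcB : CExt24.HasCechModel (snd A T).left N (CohIII.bcCx φB Pc) :=
      hPc.2.baseChange φB hsq hFU eN
    letI : Algebra B k := ε.toAlgebra
    obtain ⟨θ, θ', -, -, hθ⟩ := CExt24.exists_bc_core (A := B) (B := k) (g := (lift (𝟙 A) (toUnit A ≫ b)).left)
      (pB := A.hom) (isPullback_slice (A := A) b) (QCoh.isQCoh_pullback _ hF) hPcB 0
    have hv : v = 1 := by
      refine eq_one_of_surjective_pullMod hφ hP hξ b v hbv fun y => ?_
      have key : Function.Surjective ((CohIII.TFun (CohIII.bcCx φB Pc) 0).map (CExt24.unitMap B k)).hom := by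
        rw [surjective_bc_iff Pc φB 0]
        refine (surjective_map_of_square (CohIII.TFun Pc 0) ?_ ?_ ?_).1
          ((surjective_bc_iff Pc (algebraMap A0 R) 0 (ModuleCat.ofHom (Submodule.factor hIm))).1 hsur)
        · exact restrictIso (algebraMap A0 R) φB (M := ModuleCat.of R (R ⧸ I)) (N := ModuleCat.of B B)
            (AddEquiv.refl B) fun a z => by
              obtain ⟨z, rfl⟩ := Submodule.Quotient.mk_surjective _ z
              rfl
        · exact restrictIso (algebraMap A0 R) φB (M := ModuleCat.of R (R ⧸ maximalIdeal R))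
            (N := CExt24.algMod B k)
            ((Ideal.quotEquivOfEq hkerR.symm).trans (RingHom.quotientKerEquivOfSurjective hsurjR)).toAddEquiv
            fun a z => by
              obtain ⟨z, rfl⟩ := Submodule.Quotient.mk_surjective _ z
              show ρR (algebraMap A0 R a * z) = ρR (algebraMap A0 R a) * ρR z
              rw [map_mul]
        · refine ModuleCat.hom_ext (LinearMap.ext fun z => ?_)
          obtain ⟨z, rfl⟩ := Submodule.Quotient.mk_surjective _ z
          rfl
      obtain ⟨z, hz⟩ := key (θ' y)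
      refine ⟨θ.symm z, θ'.injective ?_⟩
      rw [hθ, AddEquiv.apply_symm_apply]
      exact hz
    have hφBρ : CommRingCat.ofHom φB = ρ ≫ ψ ≫ CommRingCat.ofHom φB := Spec.map_injective (by
      rw [← cancel_mono hV.fromSpec]
      have h1 := congrArg CommaMorphism.left hv
      rw [Hom.one_def] at h1
      change Spec.map (CommRingCat.ofHom φB) ≫ hV.fromSpec =
        Spec.map (ψ ≫ CommRingCat.ofHom φB) ≫ η[At].left at h1
      rw [h1, Spec.map_comp ρ, hρ, Category.assoc, hσ])
    refine le_antisymm hIm ?_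
    rw [← Localization.AtPrime.map_eq_maximalIdeal (I := x0.asIdeal), Ideal.map_le_iff_le_comap]
    intro a ha
    rw [Ideal.mem_comap, ← Ideal.Quotient.eq_zero_iff_mem]
    have h1 : φB a = φB (ψ.hom (ρ.hom a)) := congr($hφBρ a)
    show φB a = 0
    rw [h1, RingHom.mem_ker.1 (hkerρ.ge ha), map_zero, map_zero]

end Groth.Agent.AVPoinc
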