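import Groth.Agent.AVPoinc.FreeComplex
import Mathlib.LinearAlgebra.Dual.Lemmas

/-!
The top cohomology of a self dual finite free complex over a regular local ring is the residue field.
-/

noncomputable section

set_option linter.style.haveILetI false
set_option linter.unusedSectionVars false
set_option maxHeartbeats 800000

universe u

open CategoryTheory CategoryTheory.Limits IsLocalRing

namespace Groth.Agent.AVPoinc

open Groth.Agent.CAlgOdd.Acyclicity

theorem depth_eq_dim {R : Type u} [CommRing R] [IsRegularLocalRing R] {g : ℕ} (hg : ringKrullDim R = g) :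
    (g : ℕ∞) ≤ LocCoh.depth R R := by
  have h : ringKrullDim R = (LocCoh.depth R R : WithBot ℕ∞) := by
    rw [← Module.supportDim_self_eq_ringKrullDim]; exact (AvramovLib.isCM_of_regular R).supportDim_eq_depth
  rw [hg] at h
  exact WithBot.coe_le_coe.1 (le_of_eq h)

variable {R : Type u} [CommRing R] [IsLocalRing R] [IsNoetherianRing R] (P : ChainComplex (ModuleCat.{u} R) ℤ)

/-- The last step of the dimension shifting. -/
theorem top_coker (m : ℕ) (hfin : ∀ i, Module.Finite R (P.X i)) (hfree : ∀ i, Module.Free R (P.X i))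
    (hinj : Function.Injective ((dualCx P).d (m + 1) m).hom) {E : Type*} [AddCommGroup E] [Module R E]
    (q : (bnd (dualCx P) m →ₗ[R] R) →ₗ[R] E) (hq : Function.Surjective q)
    (hker : LinearMap.ker q =
      LinearMap.range (LinearMap.lcomp R R (LinearMap.range ((dualCx P).d (m + 1) m).hom).subtype)) :
    Nonempty (E ≃ₗ[R]
      (P.X (-((m + 1 : ℕ) : ℤ)) ⧸ LinearMap.range (P.d (-(m : ℤ)) (-((m + 1 : ℕ) : ℤ))).hom)) := by
  let V := P.X (-((m + 1 : ℕ) : ℤ))
  let W := P.X (-(m : ℤ))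
  let δ : Module.Dual R V →ₗ[R] Module.Dual R W := (P.d (-(m : ℤ)) (-((m + 1 : ℕ) : ℤ))).hom.dualMap
  have hδ : ((dualCx P).d (m + 1) m).hom = δ := by rw [dualCx_d]; rfl
  let er : Module.Dual R V ≃ₗ[R] bnd (dualCx P) m :=
    LinearEquiv.ofInjective ((dualCx P).d (m + 1) m).hom hinj
  haveI := hfin (-((m + 1 : ℕ) : ℤ))
  haveI := hfree (-((m + 1 : ℕ) : ℤ))
  haveI := hfin (-(m : ℤ))
  haveI := hfree (-(m : ℤ))
  let Φ : V ≃ₗ[R] (bnd (dualCx P) m →ₗ[R] R) :=
    (Module.evalEquiv R V).trans (LinearEquiv.congrLeft R R er)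
  have hΦ : ∀ (v : V) (φ : Module.Dual R V), Φ v (er φ) = φ v := fun v φ => by
    show (Module.evalEquiv R V v) (er.symm (er φ)) = φ v
    rw [LinearEquiv.symm_apply_apply]
    rfl
  have hq' : Function.Surjective (q ∘ₗ Φ.toLinearMap) := hq.comp Φ.surjective
  refine ⟨(((q ∘ₗ Φ.toLinearMap).quotKerEquivOfSurjective hq').symm.trans (Submodule.quotEquivOfEq _ _ ?_))⟩
  have key : ∀ (w : W), Φ ((P.d (-(m : ℤ)) (-((m + 1 : ℕ) : ℤ))).hom w) =
      LinearMap.lcomp R R (LinearMap.range ((dualCx P).d (m + 1) m).hom).subtype (Module.evalEquiv R W w) := by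
    intro w
    refine LinearMap.ext fun x => ?_
    obtain ⟨φ, rfl⟩ := er.surjective x
    rw [hΦ]
    show _ = (show Module.Dual R W from ((dualCx P).d (m + 1) m).hom φ) w
    rw [hδ]
    rfl
  ext v
  rw [LinearMap.mem_ker]
  show q (Φ v) = 0 ↔ _
  rw [← LinearMap.mem_ker, hker, LinearMap.mem_range, LinearMap.mem_range]
  constructor
  · rintro ⟨f, hf⟩
    obtain ⟨w, rfl⟩ := (Module.evalEquiv R W).surjective f
    exact ⟨w, Φ.injective ((key w).trans hf)⟩
  · rintro ⟨w, rfl⟩
    exact ⟨Module.evalEquiv R W w, (key w).symm⟩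

theorem projective_dualCx (hfin : ∀ i, Module.Finite R (P.X i)) (hfree : ∀ i, Module.Free R (P.X i)) (j : ℕ) :
    Projective ((dualCx P).X j) := by
  haveI := hfin (-(j : ℤ))
  haveI := hfree (-(j : ℤ))
  exact (IsProjective.iff_projective (R := R) (Module.Dual R (P.X (-(j : ℤ))))).1 inferInstance

end Groth.Agent.AVPoinc

namespace Groth.Agent.AVPoinc

open Groth.Agent.CAlgOdd.Acyclicity

variable {R : Type u} [CommRing R] [IsRegularLocalRing R] (P : ChainComplex (ModuleCat.{u} R) ℤ) (g : ℕ)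

/-- The self duality. -/
theorem self_dual (hg : ringKrullDim R = g)
    (hfin : ∀ i, Module.Finite R (P.X i)) (hfree : ∀ i, Module.Free R (P.X i))
    (hlow : ∀ i : ℤ, i < -(g : ℤ) → IsZero (P.X i)) (hhigh : ∀ i : ℤ, 0 < i → IsZero (P.X i))
    (hkill : ∀ a ∈ maximalIdeal R, ∃ n, ∀ (q : ℤ) (z : P.X q), P.d q (q - 1) z = 0 →
      ∃ w : P.X (q + 1), P.d (q + 1) q w = a ^ n • z)
    (hN : Nonempty (((dualCx P).X 0 ⧸ LinearMap.range ((dualCx P).d 1 0).hom) ≃ₗ[R] R ⧸ maximalIdeal R)) :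
    (∀ j, (revCx P g).ExactAt (j + 1)) ∧
      Nonempty ((P.X (-(g : ℤ)) ⧸ LinearMap.range (P.d (-(g : ℤ) + 1) (-(g : ℤ))).hom) ≃ₗ[R]
        R ⧸ maximalIdeal R) := by
  have hdepth := depth_eq_dim hg
  refine ⟨exactAt_revCx P g hfin hfree hlow hkill hdepth hhigh, ?_⟩
  have hex := exactAt_dualCx P g hfin hfree hlow hkill hdepth
  obtain ⟨eN⟩ := hN
  let C := dualCx P
  cases g with
  | zero =>
    haveI : Subsingleton (P.X (-((1 : ℕ) : ℤ))) := ModuleCat.subsingleton_of_isZero (hlow _ (by omega))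
    haveI : Subsingleton (P.X (-((0 : ℕ) : ℤ) + 1)) := ModuleCat.subsingleton_of_isZero (hhigh _ (by omega))
    haveI : Subsingleton (C.X 1) :=
      inferInstanceAs (Subsingleton (Module.Dual R (P.X (-((1 : ℕ) : ℤ)))))
    have e1 : LinearMap.range (C.d 1 0).hom = ⊥ :=
      LinearMap.range_eq_bot.2 (LinearMap.ext fun x => by rw [Subsingleton.elim x 0, map_zero, map_zero])
    have e2 : LinearMap.range (P.d (-((0 : ℕ) : ℤ) + 1) (-((0 : ℕ) : ℤ))).hom = ⊥ :=
      LinearMap.range_eq_bot.2 (LinearMap.ext fun x => by rw [Subsingleton.elim x 0, map_zero, map_zero])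
    let eD : Module.Dual R (P.X (-((0 : ℕ) : ℤ))) ≃ₗ[R] R ⧸ maximalIdeal R :=
      (Submodule.quotEquivOfEqBot _ e1).symm.trans eN
    have hm : maximalIdeal R = ⊥ := by
      rw [← Submodule.spanFinrank_eq_zero_iff_eq_bot (IsNoetherian.noetherian _)]
      have h := IsRegularLocalRing.spanFinrank_maximalIdeal (R := R)
      rw [hg] at h
      exact_mod_cast h
    haveI := hfin (-((0 : ℕ) : ℤ))
    haveI := hfree (-((0 : ℕ) : ℤ))
    let eR : (R ⧸ maximalIdeal R) ≃ₗ[R] R := Submodule.quotEquivOfEqBot _ hm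
    exact ⟨(Submodule.quotEquivOfEqBot _ e2).trans ((Module.evalEquiv R _).trans
      ((LinearEquiv.congrLeft R R (eD.trans eR)).trans ((LinearMap.ringLmapEquivSelf R R R).trans eR.symm)))⟩
  | succ m =>
    obtain ⟨-, ⟨eE⟩⟩ := ext_residue_self hg
    haveI : Subsingleton (C.X (m + 1 + 1)) := by
      haveI : Subsingleton (P.X (-((m + 1 + 1 : ℕ) : ℤ))) := ModuleCat.subsingleton_of_isZero (hlow _ (by omega))
      exact inferInstanceAs (Subsingleton (Module.Dual R (P.X (-((m + 1 + 1 : ℕ) : ℤ)))))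
    have hinj : Function.Injective (C.d (m + 1) m).hom := (injective_iff_map_eq_zero _).2 fun z hz => by
      obtain ⟨w, hw⟩ := (exactAt_iff_elem C m).1 (hex m) z hz
      rw [← hw, Subsingleton.elim w 0, map_zero]
    let f0 : C.X 0 →ₗ[R] R ⧸ maximalIdeal R := eN.toLinearMap ∘ₗ (LinearMap.range (C.d 1 0).hom).mkQ
    have hf0 : ∀ z, f0 z = 0 ↔ z ∈ LinearMap.range (C.d 1 0).hom := fun z => by
      show eN (Submodule.Quotient.mk z) = 0 ↔ _
      rw [LinearEquiv.map_eq_zero_iff, Submodule.Quotient.mk_eq_zero]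
    let S0 : ShortComplex (ModuleCat.{u} R) :=
      ShortComplex.mk (X₁ := bnd C 0) (X₂ := C.X 0) (X₃ := ModuleCat.of R (R ⧸ maximalIdeal R))
        (ModuleCat.ofHom (LinearMap.range (C.d 1 0).hom).subtype) (ModuleCat.ofHom f0)
        (ModuleCat.hom_ext (LinearMap.ext fun z => (hf0 _).2 z.2))
    have hS0 : S0.ShortExact :=
      { exact := (ShortComplex.ShortExact.moduleCat_exact_iff_function_exact _).2 fun z =>
          ⟨fun h => ⟨⟨z, (hf0 z).1 h⟩, rfl⟩, by rintro ⟨w, rfl⟩; exact (hf0 _).2 w.2⟩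
        mono_f := (ModuleCat.mono_iff_injective _).2 Subtype.val_injective
        epi_g := (ModuleCat.epi_iff_surjective _).2 (eN.surjective.comp (Submodule.mkQ_surjective _)) }
    haveI := projective_dualCx P hfin hfree 0
    haveI : Projective S0.X₂ := projective_dualCx P hfin hfree 0
    let K := Abelian.Ext.{u} (ModuleCat.of R (R ⧸ maximalIdeal R)) (ModuleCat.of R R) (m + 1)
    have chain : ∀ j t, j + (t + 1) = m →
        Nonempty (Abelian.Ext.{u} (bnd C j) (ModuleCat.of R R) (t + 1) ≃ₗ[R] K) := by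
      intro j
      induction j with
      | zero =>
        intro t ht
        obtain ⟨e⟩ := ext_shift hS0 (ModuleCat.of R R) t
        obtain rfl : m = t + 1 := by omega
        exact ⟨e⟩
      | succ j ih =>
        intro t ht
        haveI : Projective (bndSeq C j).X₂ := projective_dualCx P hfin hfree (j + 1)
        obtain ⟨e⟩ := ext_shift (bndSeq_shortExact C j (hex j)) (ModuleCat.of R R) t
        obtain ⟨e'⟩ := ih (t + 1) (by omega)
        exact ⟨e.trans e'⟩
    have step : ∀ {E : Type u} [AddCommGroup E] [Module R E] (q : (bnd C m →ₗ[R] R) →ₗ[R] E),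
        Function.Surjective q → LinearMap.ker q =
          LinearMap.range (LinearMap.lcomp R R (LinearMap.range (C.d (m + 1) m).hom).subtype) →
        (E ≃ₗ[R] K) → Nonempty ((P.X (-((m + 1 : ℕ) : ℤ)) ⧸
          LinearMap.range (P.d (-((m + 1 : ℕ) : ℤ) + 1) (-((m + 1 : ℕ) : ℤ))).hom) ≃ₗ[R] R ⧸ maximalIdeal R) := by
      intro E _ _ q hq hker eq
      obtain ⟨e⟩ := top_coker P m hfin hfree hinj q hq hker
      have hr : LinearMap.range (P.d (-((m + 1 : ℕ) : ℤ) + 1) (-((m + 1 : ℕ) : ℤ))).hom =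
          LinearMap.range (P.d (-(m : ℤ)) (-((m + 1 : ℕ) : ℤ))).hom := by
        have e' : ∀ (i i' j : ℤ), i = i' → LinearMap.range (P.d i j).hom = LinearMap.range (P.d i' j).hom :=
          fun i i' j h => by subst h; rfl
        exact e' _ _ _ (by omega)
      exact ⟨(Submodule.quotEquivOfEq _ _ hr).trans (e.symm.trans (eq.trans eE))⟩
    cases m with
    | zero =>
      obtain ⟨q, hq, hker⟩ := ext_one hS0 (ModuleCat.of R R)
      exact step q hq hker (LinearEquiv.refl R _)
    | succ l =>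
      haveI : Projective (bndSeq C l).X₂ := projective_dualCx P hfin hfree (l + 1)
      obtain ⟨q, hq, hker⟩ := ext_one (bndSeq_shortExact C l (hex l)) (ModuleCat.of R R)
      obtain ⟨e⟩ := chain l 0 (by omega)
      exact step q hq hker e

end Groth.Agent.AVPoinc
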